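import Cfsg.Agent.Lib.Invol.KleinPair
import Cfsg.Agent.Lib.Invol.Basic
import Cfsg.Agent.Lib.Coprime.Action
import Cfsg.Agent.S0205

/-!
# Coprime actions of dihedral groups and of four groups

A group of odd order is generated by the fixed points of a rotation and of the reflections of a
dihedral group acting on it coprimely to the rotation.  An inverted `p`-element under a four group
gives one that is centralized by another involution of the four group.
-/

set_option autoImplicit false
set_option linter.style.haveILetI false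

namespace CfsgLib.SECrit.TWeak

open Subgroup CfsgLib.Invol

universe u

variable {G : Type u} [Group G] [Finite G]

/-- What is fixed modulo a subgroup of `T` lifts to `T`. -/
private theorem mem_of_fixed_mod {A D W T : Subgroup G} (hA : A ≤ normalizer (D : Set G))
    (hcop : (Nat.card A).Coprime (Nat.card D)) (hDs : Group.IsSolvable D) (hDW : D ≤ W) (hDT : D ≤ T)
    {w : G} (hw : w ∈ W) (hwD : w ∈ normalizer (D : Set G)) (hfix : ∀ a ∈ A, a * w * a⁻¹ * w⁻¹ ∈ D)
    (hC : ∀ y ∈ W, y ∈ centralizer (A : Set G) → y ∈ T) : w ∈ T := by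
  obtain ⟨n, hn, hwn⟩ := CfsgLib.Coprime.exists_fixed_in_coset hA hcop (Or.inr hDs) hwD hfix
  simpa using mul_mem (hC _ (mul_mem hw (hDW hn)) hwn) (inv_mem (hDT hn))

/-- A group of odd order is generated by the fixed points of a rotation of order prime to it and of the
reflections. -/
theorem le_of_dihedral {p : ℕ} {W T : Subgroup G} {z e : G} (hW : Odd (Nat.card W))
    (hWp : (Nat.card W).Coprime p) (hz : ∃ k, orderOf z = p ^ k) (he : orderOf e = 2)
    (hze : e * z * e⁻¹ = z⁻¹) (hzW : z ∈ normalizer (W : Set G)) (heW : e ∈ normalizer (W : Set G))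
    (hCz : ∀ w ∈ W, Commute z w → w ∈ T) (hCe : ∀ w ∈ W, ∀ n : ℕ, Commute (e * z ^ n) w → w ∈ T) :
    W ≤ T := by
  induction hcard : Nat.card W using Nat.strong_induction_on generalizing W with
  | _ m ih =>
  subst hcard
  rcases eq_or_ne W ⊥ with rfl | hne
  · exact bot_le
  haveI : Group.IsSolvable W := Cfsg.Agent.S0205.result hW
  haveI : Nontrivial W := (Subgroup.nontrivial_iff_ne_bot W).2 hne
  set D := (commutator W).map W.subtype with hD
  have hDW : D ≤ W := map_subtype_le _
  have hDn : normalizer (W : Set G) ≤ normalizer (D : Set G) :=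
    CfsgLib.PGroup.normalizer_le_normalizer_map_char W _
  have hDlt : Nat.card D < Nat.card W := by
    refine lt_of_le_of_ne (Subgroup.card_le_of_le hDW) fun e1 => ?_
    rw [hD, card_map_of_injective W.subtype_injective] at e1
    exact (Group.IsSolvable.commutator_lt_top_of_nontrivial W).ne (eq_top_of_card_eq _ e1)
  have hDd : Nat.card D ∣ Nat.card W := card_dvd_of_le hDW
  have hDT : D ≤ T := ih _ hDlt (hW.of_dvd_nat hDd) (Nat.Coprime.coprime_dvd_left hDd hWp) (hDn hzW)
    (hDn heW) (fun w hw => hCz w (hDW hw)) (fun w hw => hCe w (hDW hw)) rfl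
  haveI : Group.IsSolvable D := Cfsg.Agent.S0205.result (hW.of_dvd_nat hDd)
  set f : W →* Abelianization W := Abelianization.of with hf
  have hmemD : ∀ x y : W, f x = f y → (x : G) * (y : G)⁻¹ ∈ D := fun x y e1 => by
    refine ⟨x * y⁻¹, ?_, by simp⟩
    have : x * y⁻¹ ∈ f.ker := by rw [MonoidHom.mem_ker, map_mul, map_inv, e1, mul_inv_cancel]
    rwa [hf, Abelianization.ker_of] at this
  let c : normalizer (W : Set G) → W → W := fun a x =>
    ⟨(a : G) * x * (a : G)⁻¹, (mem_normalizer_iff.1 a.2 _).1 x.2⟩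
  have hlift : ∀ (s : G) (hs : s ∈ normalizer (W : Set G)),
      (Nat.card (zpowers s)).Coprime (Nat.card D) → (∀ w ∈ W, Commute s w → w ∈ T) →
      ∀ x : W, f (c ⟨s, hs⟩ x) = f x → (x : G) ∈ T := by
    intro s hs hcop hC x hx
    refine mem_of_fixed_mod (zpowers_le.2 (hDn hs)) hcop inferInstance hDW hDT x.2
      (hDn (le_normalizer x.2)) ?_ (fun y hy hyC => hC y hy (mem_centralizer_iff.1 hyC s (mem_zpowers s)))
    intro a ha
    obtain ⟨n, rfl⟩ := (mem_powers_iff_mem_zpowers (x := s)).2 ha
    induction n with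
    | zero => simp [one_mem]
    | succ n ih' =>
      have h1 : s * x * s⁻¹ * (x : G)⁻¹ ∈ D := hmemD _ _ hx
      have h2 := (mem_normalizer_iff.1 (hDn hs) _).1 (ih' (pow_mem (mem_zpowers s) n))
      show s ^ (n + 1) * x * (s ^ (n + 1))⁻¹ * (x : G)⁻¹ ∈ D
      rw [pow_succ', show s * s ^ n * x * (s * s ^ n)⁻¹ * (x : G)⁻¹ =
        (s * (s ^ n * x * (s ^ n)⁻¹ * (x : G)⁻¹) * s⁻¹) * (s * x * s⁻¹ * (x : G)⁻¹) by group]
      exact mul_mem h2 h1
  have hzc : (Nat.card (zpowers z)).Coprime (Nat.card D) := by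
    obtain ⟨k, hk⟩ := hz
    rw [Nat.card_zpowers, hk]
    exact ((Nat.Coprime.coprime_dvd_left hDd hWp).symm).pow_left k
  intro w hw
  set w0 : W := ⟨w, hw⟩
  set N := orderOf z with hN
  set zp : ℕ → normalizer (W : Set G) := fun n => ⟨z ^ n, pow_mem hzW n⟩
  set en : normalizer (W : Set G) := ⟨e, heW⟩
  set K := (T.subgroupOf W).map f with hK
  have hKmem : ∀ x : W, f x ∈ K → (x : G) ∈ T := by
    rintro x ⟨y, hy, hyx⟩
    have h1 := hmemD _ _ hyx.symm
    simpa using mul_mem (hDT h1) hy
  have hc : ∀ (a b : normalizer (W : Set G)) (x : W), c a (c b x) = c (a * b) x := fun a b x =>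
    Subtype.ext (show (a : G) * ((b : G) * x * (b : G)⁻¹) * (a : G)⁻¹ = _ by
      simp [c, mul_assoc])
  let cf : normalizer (W : Set G) → (Abelianization W →* Abelianization W) := fun a =>
    Abelianization.map
      { toFun := c a
        map_one' := Subtype.ext (by simp [c])
        map_mul' := fun x y => Subtype.ext (by simp [c, mul_assoc]) }
  have hcf : ∀ (a : normalizer (W : Set G)) (x : W), cf a (f x) = f (c a x) := fun a x =>
    Abelianization.map_of _ _
  -- fixed points of a reflection
  have hterm : ∀ n : ℕ, f w0 * f (c (en * zp n) w0) ∈ K := by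
    intro n
    refine ⟨w0 * c (en * zp n) w0, ?_, map_mul _ _ _⟩
    have hs2 : (e * z ^ n) * (e * z ^ n) = 1 := by
      calc e * z ^ n * (e * z ^ n) = (e * z ^ n * e⁻¹) * z ^ n := by
            rw [invol_inv he]; group
        _ = 1 := by rw [← conj_pow, hze, inv_pow, inv_mul_cancel]
    show ((w0 * c (en * zp n) w0 : W) : G) ∈ T
    refine hlift (e * z ^ n) (mul_mem heW (pow_mem hzW n)) ?_ (fun y hy => hCe y hy n) _ ?_
    · rw [Nat.card_zpowers]
      exact Nat.Coprime.coprime_dvd_left (orderOf_dvd_of_pow_eq_one (by rw [pow_two]; exact hs2))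
        (Nat.coprime_two_left.2 (hW.of_dvd_nat hDd))
    · rw [← hcf, map_mul, map_mul, hcf, hcf, hc, mul_comm]
      congr 1
      exact congrArg f (Subtype.ext (show (e * z ^ n * (e * z ^ n)) * w * (e * z ^ n * (e * z ^ n))⁻¹ = w by
        rw [hs2]; group))
  -- fixed points of the rotation
  have hQ : ∏ n ∈ Finset.range N, f (c (en * zp n) w0) ∈ K := by
    have hsh : cf ⟨z, hzW⟩ (∏ n ∈ Finset.range N, f (c (zp n * en) w0)) =
        ∏ n ∈ Finset.range N, f (c (zp n * en) w0) := by
      rw [map_prod]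
      simp only [hcf, hc]
      have h1 : ∀ n, f (c (⟨z, hzW⟩ * (zp n * en)) w0) = f (c (zp (n + 1) * en) w0) := fun n => by
        congr 2; apply Subtype.ext
        show z * (z ^ n * e) = z ^ (n + 1) * e
        rw [pow_succ', mul_assoc]
      simp only [h1]
      have h2 := Finset.prod_range_succ' (fun n => f (c (zp n * en) w0)) N
      rw [Finset.prod_range_succ] at h2
      have h3 : zp N * en = zp 0 * en := Subtype.ext (show z ^ N * e = z ^ 0 * e by
        rw [hN, pow_orderOf_eq_one, pow_zero])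
      rw [h3] at h2
      exact (mul_right_cancel h2).symm
    obtain ⟨q, hq⟩ : ∃ q : W, f q = ∏ n ∈ Finset.range N, f (c (zp n * en) w0) :=
      ⟨(∏ n ∈ Finset.range N, f (c (zp n * en) w0)).out, QuotientGroup.out_eq' _⟩
    have hqK : f q ∈ K := ⟨q, hlift z hzW hzc (fun y hy => hCz y hy) q (by rw [← hcf, hq, hsh]), rfl⟩
    have he' : ∀ n, en * zp n = zp (orderOf z * n - n) * en := fun n => Subtype.ext <| by
      show e * z ^ n = z ^ (orderOf z * n - n) * e
      have h1 : z ^ (orderOf z * n - n) = (z ^ n)⁻¹ := eq_inv_of_mul_eq_one_left (by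
        rw [← pow_add, Nat.sub_add_cancel (Nat.le_mul_of_pos_left n (orderOf_pos z)), pow_mul,
          pow_orderOf_eq_one, one_pow])
      rw [h1, ← inv_pow, ← hze, conj_pow]; group
    rw [hq] at hqK
    convert hqK using 1
    refine Finset.prod_nbij' (fun n => (N * n - n) % N) (fun n => (N * n - n) % N) ?_ ?_ ?_ ?_ ?_
    · intro n _; exact Finset.mem_range.2 (Nat.mod_lt _ (orderOf_pos z))
    · intro n _; exact Finset.mem_range.2 (Nat.mod_lt _ (orderOf_pos z))
    all_goals first
      | (intro n hn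
         have hn' := Finset.mem_range.1 hn
         rcases Nat.eq_zero_or_pos n with rfl | hn0
         · simp
         · have e1 : (N * n - n) % N = N - n := by
             obtain ⟨m, rfl⟩ : ∃ m, n = m + 1 := ⟨n - 1, by omega⟩
             rw [show N * (m + 1) - (m + 1) = (N - (m + 1)) + N * m by rw [mul_add, mul_one]; omega,
               Nat.add_mul_mod_self_left, Nat.mod_eq_of_lt (by omega)]
           have e2 : (N * (N - n) - (N - n)) % N = n := by
             obtain ⟨m, hm⟩ : ∃ m, N - n = m + 1 := ⟨N - n - 1, by omega⟩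
             rw [hm, show N * (m + 1) - (m + 1) = n + N * m by rw [mul_add, mul_one]; omega,
               Nat.add_mul_mod_self_left, Nat.mod_eq_of_lt hn']
           simp only [e1, e2])
      | (intro n _
         rw [he' n]
         congr 3
         exact Subtype.ext (show z ^ (orderOf z * n - n) = z ^ ((N * n - n) % N) by
           rw [hN, pow_mod_orderOf]))
  have hpow : f w0 ^ N ∈ K := by
    have h1 : ∏ n ∈ Finset.range N, f w0 * f (c (en * zp n) w0) ∈ K := prod_mem fun n _ => hterm n
    rw [Finset.prod_mul_distrib, Finset.prod_const, Finset.card_range] at h1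
    exact (K.mul_mem_cancel_right hQ).1 h1
  rw [← map_pow] at hpow
  have h1 : w ^ N ∈ T := by simpa [w0] using hKmem _ hpow
  obtain ⟨i, hi⟩ := exists_pow_eq_self_of_coprime (n := N) (x := w) (by
    obtain ⟨k, hk⟩ := hz
    rw [show N = p ^ k from hk]
    exact ((hWp.coprime_dvd_left (Subgroup.orderOf_dvd_natCard W hw)).symm).pow_left k)
  exact hi ▸ pow_mem h1 i

/-- An inverted `p`-element under a four group gives one centralized by another involution. -/
theorem exists_inverted_centralized {p : ℕ} [Fact p.Prime] {B : Subgroup G} (hB : Odd (Nat.card B))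
    {e e1 : G} (he : orderOf e = 2) (he1 : orderOf e1 = 2) (hee : Commute e e1)
    (heB : e ∈ normalizer (B : Set G)) (he1B : e1 ∈ normalizer (B : Set G)) {u : G} (hu : u ∈ B)
    (hu1 : u ≠ 1) (hup : ∃ k, orderOf u = p ^ k) (hinv : e * u * e⁻¹ = u⁻¹) :
    ∃ z ∈ B, z ≠ 1 ∧ (∃ k, orderOf z = p ^ k) ∧ e * z * e⁻¹ = z⁻¹ ∧
      (Commute e1 z ∨ Commute (e * e1) z) := by
  have huo : Odd (orderOf u) := hB.of_dvd_nat (Subgroup.orderOf_dvd_natCard B hu)
  by_cases hne : e = e1
  · subst hne
    exact ⟨u, hu, hu1, hup, hinv, Or.inr (by rw [invol_mul_self he]; exact Commute.one_left u)⟩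
  set V := closure ({e, e1} : Set G) with hV
  haveI : IsKleinFour V := isKleinFour_closure_pair he he1 hne hee
  haveI : IsMulCommutative V :=
    ⟨⟨fun a b => mul_comm_of_exponent_two IsKleinFour.exponent_two a b⟩⟩
  have hVB : V ≤ normalizer (B : Set G) := (closure_le _).2 (by rintro x (rfl | rfl) <;> assumption)
  have hcop : (Nat.card V).Coprime (Nat.card B) := by
    rw [IsKleinFour.card_four]
    exact (Nat.coprime_two_left.2 hB).pow_left 2
  haveI : Group.IsSolvable B := Cfsg.Agent.S0205.result hB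
  obtain ⟨S, hS, hVS⟩ := CfsgLib.Coprime.exists_invariant_sylow hVB hcop (Or.inr inferInstance) p
  have heV : e ∈ V := subset_closure (by simp)
  have he1V : e1 ∈ V := subset_closure (by simp)
  have hSnot : ¬ S ≤ centralizer ({e} : Set G) := by
    intro hle
    have hup' : IsPGroup p (zpowers (⟨u, hu⟩ : B)) := by
      obtain ⟨k, hk⟩ := hup
      exact IsPGroup.of_card (n := k) (by rw [Nat.card_zpowers, orderOf_mk, hk])
    obtain ⟨b, hb⟩ := CfsgLib.Invol.exists_conj_le_sylow hup' hS.toSylow
    have h1 : (b : G) * u * (b : G)⁻¹ ∈ S := by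
      have := mem_map_of_mem B.subtype (hb ⟨u, hu⟩ (mem_zpowers _))
      rw [hS.map_toSylow] at this
      simpa using this
    have h2 : Commute e ((b : G) * u * (b : G)⁻¹) := (mem_centralizer_singleton_iff.1 (hle h1)).symm
    set e' := (b : G)⁻¹ * e * b with he'
    have he'u : Commute e' u := by
      have := h2.map (MulAut.conj (b : G)⁻¹).toMonoidHom
      simpa [he', mul_assoc] using this
    have hee' : Odd (orderOf (e' * e)) := by
      refine hB.of_dvd_nat (Subgroup.orderOf_dvd_natCard B ?_)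
      rw [he', show (b : G)⁻¹ * e * b * e = (b : G)⁻¹ * (e * b * e) by group]
      refine mul_mem (inv_mem b.2) ?_
      simpa [invol_inv he] using (mem_normalizer_iff.1 heB (b : G)).1 b.2
    have he'o : orderOf e' = 2 := by simpa [he'] using invol_conj he (b : G)⁻¹
    obtain ⟨v, hv, hvk⟩ := exists_conj_eq_of_odd he'o he hee'
    have hkW : e' ∈ normalizer (zpowers u : Set G) := mem_normalizer_iff_map_conj_eq.2 (by
      rw [MonoidHom.map_zpowers]
      exact congrArg zpowers (show e' * u * e'⁻¹ = u by rw [he'u.eq, mul_inv_cancel_right]))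
    have heW : e ∈ normalizer (zpowers u : Set G) := mem_normalizer_iff_map_conj_eq.2 (by
      rw [MonoidHom.map_zpowers]
      exact (congrArg zpowers (show e * u * e⁻¹ = u⁻¹ from hinv)).trans zpowers_inv)
    have hvW : v ∈ normalizer (zpowers u : Set G) := zpowers_le.2 (mul_mem hkW heW) hv
    obtain ⟨i, hi⟩ := mem_zpowers_iff.1 ((mem_normalizer_iff''.1 hvW u).1 (mem_zpowers u))
    have h3 : e * u * e⁻¹ = u := by
      calc e * u * e⁻¹ = v * (e' * (v⁻¹ * u * v) * e'⁻¹) * v⁻¹ := by rw [← hvk]; group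
        _ = v * (v⁻¹ * u * v) * v⁻¹ := by rw [← hi, (he'u.zpow_right i).eq, mul_inv_cancel_right]
        _ = u := by group
    refine hu1 (eq_one_of_odd_of_pow_two (k := 1) huo ?_)
    rw [pow_one, pow_two, mul_eq_one_iff_eq_inv]
    exact h3.symm.trans hinv
  have key : ∃ s ∈ S, (Commute e1 s ∨ Commute (e * e1) s) ∧ ¬ Commute e s := by
    by_contra hno
    push Not at hno
    refine hSnot (CfsgLib.Coprime.le_of_centralizers_le IsKleinFour.not_isCyclic hVS
      (hcop.coprime_dvd_right (card_dvd_of_le hS.1)) fun a ha ha1 => ?_)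
    rintro s ⟨hsS, hsa⟩
    have hsa' : Commute a s := (mem_centralizer_singleton_iff.1 hsa).symm
    refine mem_centralizer_singleton_iff.2 (Commute.symm ?_)
    have hsq := invol_mul_self he
    have hsq1 := invol_mul_self he1
    have hall : ∀ x ∈ V, x = 1 ∨ x = e ∨ x = e1 ∨ x = e * e1 := by
      intro x hx
      induction hx using closure_induction with
      | mem y hy =>
        rcases hy with h1 | h1
        · exact Or.inr (Or.inl h1)
        · exact Or.inr (Or.inr (Or.inl (Set.mem_singleton_iff.1 h1)))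
      | one => exact Or.inl rfl
      | mul y y' _ _ ih1 ih2 =>
        rcases ih1 with h1 | h1 | h1 | h1 <;> rcases ih2 with h2 | h2 | h2 | h2 <;>
          simp [h1, h2, ← mul_assoc, hsq, hsq1, ← hee.eq, mul_assoc e e1 e1, mul_assoc e e1 e]
      | inv y _ ih' =>
        rcases ih' with h1 | h1 | h1 | h1 <;> simp [h1, invol_inv he, invol_inv he1, hee.eq]
    rcases hall a ha with h1 | h1 | h1 | h1
    · exact absurd h1 ha1
    · exact h1 ▸ hsa'
    · exact hno s hsS (Or.inl (h1 ▸ hsa'))
    · exact hno s hsS (Or.inr (h1 ▸ hsa'))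
  obtain ⟨s, hsS, hsc, hse⟩ := key
  have heS : e * s * e⁻¹ ∈ S := (mem_normalizer_iff.1 (hVS heV) s).1 hsS
  have hzS : s⁻¹ * (e * s * e⁻¹) ∈ S := mul_mem (inv_mem hsS) heS
  refine ⟨s⁻¹ * (e * s * e⁻¹), hS.1 hzS, fun hh => hse ?_, ?_, ?_, ?_⟩
  · exact mul_inv_eq_iff_eq_mul.1 (inv_mul_eq_one.1 hh).symm
  · obtain ⟨k, hk⟩ := IsPGroup.iff_orderOf.1 hS.isPGroup ⟨_, hzS⟩
    exact ⟨k, by rwa [orderOf_mk] at hk⟩
  · rw [invol_inv he, mul_inv_rev, inv_inv, mul_inv_rev, mul_inv_rev, invol_inv he,
      show e * (s⁻¹ * (e * s * e)) * e = e * s⁻¹ * e * s * (e * e) by group, invol_mul_self he, mul_one]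
    group
  · rcases hsc with h1 | h1
    · exact Or.inl (h1.inv_right.mul_right ((hee.symm.mul_right h1).mul_right hee.symm.inv_right))
    · have h2 : Commute (e * e1) e := (Commute.refl e).mul_left hee.symm
      exact Or.inr (h1.inv_right.mul_right ((h2.mul_right h1).mul_right h2.inv_right))

end CfsgLib.SECrit.TWeak
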