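import Cfsg.Agent.Lib.Invol.SECriterion.Factor
import Cfsg.Agent.Lib.CFun.OddCores
import Cfsg.Agent.Lib.Invol.SECriterion.TWeak.Coprime

/-!
# The odd cores of two point stabilizers in the criterion

`pairU a b = O(G_{ab})` is transitive on the conjugates of `z` at `a`; hence for such a conjugate `e`
every subgroup of odd order fixing `a, b, e b` and normalized by the stabilizer of these three
points lies in `pairU a b`.  An element of prime order inverted by `e` and centralized by a
commuting conjugate forces `O_{p'}(O(G_{b,eb}))` to fix `a`.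
-/

set_option autoImplicit false
set_option linter.style.haveILetI false

namespace CfsgLib.SECrit.TWeak

open Subgroup CfsgLib.Invol
open CfsgLib.Coprime (conjBy mem_conjBy)
open CfsgLib.CFun (coCore coCore_le le_coCore not_dvd_coCore le_normalizer_coCore)

universe u

variable {G : Type u} [Group G] [Finite G] {M : Subgroup G} {z : G}

/-- The stabilizer of two points. -/
def pairFix (a b : G ⧸ M) : Subgroup G := MulAction.stabilizer G a ⊓ MulAction.stabilizer G b

/-- The odd core of the stabilizer of two points. -/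
def pairU (a b : G ⧸ M) : Subgroup G := coCore (pairFix a b) 2

/-- The `p'`-core of the odd core of the stabilizer of two points. -/
def pairW (p : ℕ) (a b : G ⧸ M) : Subgroup G := coCore (pairU a b) p

omit [Finite G] in
theorem mem_pairFix {a b : G ⧸ M} {g : G} : g ∈ pairFix a b ↔ g • a = a ∧ g • b = b := Iff.rfl

omit [Finite G] in
theorem pairFix_comm (a b : G ⧸ M) : pairFix a b = pairFix b a := inf_comm _ _

theorem pairU_le {a b : G ⧸ M} : pairU a b ≤ pairFix a b := coCore_le

theorem pairW_le_pairU {p : ℕ} {a b : G ⧸ M} : pairW p a b ≤ pairU a b := coCore_le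

theorem odd_card_pairU (a b : G ⧸ M) : Odd (Nat.card (pairU a b)) := by
  haveI : Fact (Nat.Prime 2) := ⟨Nat.prime_two⟩
  rw [← Nat.not_even_iff_odd, even_iff_two_dvd]
  exact not_dvd_coCore

theorem pairFix_le_normalizer {a b : G ⧸ M} : pairFix a b ≤ normalizer (pairU a b : Set G) :=
  le_normalizer_coCore

theorem le_pairU {a b : G ⧸ M} {X : Subgroup G} (hX : X ≤ pairFix a b)
    (hn : pairFix a b ≤ normalizer (X : Set G)) (hodd : Odd (Nat.card X)) : X ≤ pairU a b :=
  haveI : Fact (Nat.Prime 2) := ⟨Nat.prime_two⟩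
  le_coCore hX hn hodd.not_two_dvd_nat

theorem coCore_conjBy (g : G) (D : Subgroup G) (q : ℕ) [Fact q.Prime] :
    conjBy g (coCore D q) = coCore (conjBy g D) q := by
  have key : ∀ (g : G) (D : Subgroup G), conjBy g (coCore D q) ≤ coCore (conjBy g D) q := fun g D =>
    le_coCore (map_mono coCore_le) ((map_mono le_normalizer_coCore).trans (le_normalizer_map _))
      (by rw [CfsgLib.Coprime.card_conjBy]; exact not_dvd_coCore)
  refine le_antisymm (key g D) ?_
  have h1 := map_mono (f := (MulAut.conj g).toMonoidHom) (key g⁻¹ (conjBy g D))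
  change conjBy g (conjBy g⁻¹ (coCore (conjBy g D) q)) ≤
    conjBy g (coCore (conjBy g⁻¹ (conjBy g D)) q) at h1
  rwa [CfsgLib.Coprime.conjBy_conjBy, CfsgLib.Coprime.conjBy_conjBy, mul_inv_cancel, inv_mul_cancel,
    CfsgLib.Coprime.conjBy_one, CfsgLib.Coprime.conjBy_one] at h1

omit [Finite G] in
theorem conjBy_pairFix (g : G) (a b : G ⧸ M) : conjBy g (pairFix a b) = pairFix (g • a) (g • b) := by
  ext y
  simp only [mem_conjBy, mem_pairFix, mul_smul, inv_smul_eq_iff]

theorem conjBy_pairU (g : G) (a b : G ⧸ M) : conjBy g (pairU a b) = pairU (g • a) (g • b) := by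
  haveI : Fact (Nat.Prime 2) := ⟨Nat.prime_two⟩
  rw [pairU, coCore_conjBy, conjBy_pairFix]; rfl

theorem conjBy_pairW (p : ℕ) [Fact p.Prime] (g : G) (a b : G ⧸ M) :
    conjBy g (pairW p a b) = pairW p (g • a) (g • b) := by
  rw [pairW, coCore_conjBy, conjBy_pairU]; rfl

theorem pairW_comm (p : ℕ) (a b : G ⧸ M) : pairW p a b = pairW p b a := by
  rw [pairW, pairW, pairU, pairU, pairFix_comm]

theorem pairFix_le_normalizer_pairW (p : ℕ) {a b : G ⧸ M} :
    pairFix a b ≤ normalizer (pairW p a b : Set G) :=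
  haveI := CfsgLib.Coprime.pPrimeCore_characteristic (G := pairU a b) p
  pairFix_le_normalizer.trans (CfsgLib.PGroup.normalizer_le_normalizer_map_char (pairU a b) _)

theorem odd_card_pairW (p : ℕ) (a b : G ⧸ M) : Odd (Nat.card (pairW p a b)) :=
  (odd_card_pairU a b).of_dvd_nat (card_dvd_of_le pairW_le_pairU)

section

variable (h : Crit M z)
include h

/-- `O(G_{ab})` is transitive on the conjugates of `z` at `a`. -/
theorem exists_pairU_conj {a b : G ⧸ M} (hab : a ≠ b) {d d' : G} (hd : IsConj z d) (hd' : IsConj z d')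
    (ha : d • a = a) (ha' : d' • a = a) : ∃ r ∈ pairU a b, r * d * r⁻¹ = d' := by
  haveI : Fact (Nat.Prime 2) := ⟨Nat.prime_two⟩
  obtain ⟨r, hr, -, -, hrd⟩ := h.exists_core_conj hab hd hd' ha ha'
  refine ⟨r, ?_, hrd⟩
  have hX : coCore (pairStab a b) 2 ≤ pairFix a b := by
    intro y hy
    have hy' : Odd (orderOf y) := by
      have hodd : Odd (Nat.card (coCore (pairStab a b) 2)) := by
        rw [← Nat.not_even_iff_odd, even_iff_two_dvd]; exact not_dvd_coCore
      exact hodd.of_dvd_nat (Subgroup.orderOf_dvd_natCard _ hy)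
    rcases coCore_le hy with hh | ⟨h1, h2⟩
    · exact hh
    · obtain ⟨k, hk⟩ := hy'
      have e : y = (y ^ 2) ^ (k + 1) := by
        rw [← pow_mul, show 2 * (k + 1) = 2 * k + 1 + 1 by ring, pow_succ, ← hk, pow_orderOf_eq_one,
          one_mul]
      have hsq : y ^ 2 ∈ pairFix a b := by
        rw [pow_two, mem_pairFix, mul_smul, mul_smul, h1, h2]; exact ⟨rfl, h1⟩
      exact e ▸ pow_mem hsq _
  refine le_pairU hX (fun n hn => le_normalizer_coCore (mem_pairStab_of_fix hn.1 hn.2)) ?_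
    ⟨r, hr, rfl⟩
  rw [← Nat.not_even_iff_odd, even_iff_two_dvd]; exact not_dvd_coCore

/-- The stabilizer of two points is `O(G_{ab})` times the centralizer of a conjugate at `a`. -/
theorem exists_mul_commute {a b : G ⧸ M} (hab : a ≠ b) {e : G} (he : IsConj z e) (hea : e • a = a) {n : G}
    (hn : n ∈ pairFix a b) : ∃ r ∈ pairU a b, ∃ c : G, Commute c e ∧ c ∈ pairFix a (e • b) ∧
      c • b = b ∧ n = r * c := by
  obtain ⟨r, hr, hre⟩ := exists_pairU_conj h hab he (he.trans (isConj_iff.2 ⟨n, rfl⟩)) hea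
    (by rw [mul_smul, mul_smul, inv_smul_eq_iff.2 hn.1.symm, hea, hn.1])
  have hcf : r⁻¹ * n ∈ pairFix a b := mul_mem (inv_mem (pairU_le hr)) hn
  have hce : Commute (r⁻¹ * n) e := by
    refine mul_inv_eq_iff_eq_mul.1 ?_
    calc r⁻¹ * n * e * (r⁻¹ * n)⁻¹ = r⁻¹ * (n * e * n⁻¹) * r := by group
      _ = e := by rw [← hre]; group
  refine ⟨r, hr, r⁻¹ * n, hce, ⟨hcf.1, ?_⟩, hcf.2, (mul_inv_cancel_left r n).symm⟩
  show (r⁻¹ * n) • e • b = e • b
  rw [smul_smul, hce.eq, mul_smul, hcf.2]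

/-- An odd subgroup fixing `a, b, e b` normalized by their stabilizer lies in `O(G_{ab})`. -/
theorem le_pairU_of_normalized {a b : G ⧸ M} (hab : a ≠ b) {e : G} (he : IsConj z e) (hea : e • a = a)
    {Y : Subgroup G} (hYodd : Odd (Nat.card Y)) (hY : Y ≤ pairFix a b)
    (hYn : ∀ c ∈ pairFix a (e • b), c • b = b → c ∈ normalizer (Y : Set G)) : Y ≤ pairU a b := by
  set U := pairU a b
  refine le_sup_left.trans (le_pairU (X := Y ⊔ U) (sup_le hY pairU_le) ?_ ?_)
  · intro n hn
    obtain ⟨r, hr, c, -, hc, hcb, rfl⟩ := exists_mul_commute h hab he hea hn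
    refine mul_mem (le_normalizer (mem_sup_right hr : r ∈ Y ⊔ U)) ?_
    have hcU : c ∈ normalizer (U : Set G) := pairFix_le_normalizer ⟨hc.1, hcb⟩
    have hcY := hYn c hc hcb
    refine mem_normalizer_iff_map_conj_eq.2 ?_
    rw [Subgroup.map_sup, mem_normalizer_iff_map_conj_eq.1 hcY, mem_normalizer_iff_map_conj_eq.1 hcU]
  · exact (hYodd.mul (odd_card_pairU a b)).of_dvd_nat
      (CfsgLib.Coprime.card_sup_dvd_of_le_normalizer (hY.trans pairFix_le_normalizer))

/-- No conjugate at another point centralizes what a conjugate inverts and a commuting one at the same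
point centralizes. -/
theorem smul_of_commute_inverted {a : G ⧸ M} {c e w y : G} (hc : IsConj z c) (he : IsConj z e)
    (hca : c • a = a) (hea : e • a = a) (hw : Odd (orderOf w)) (hw1 : w ≠ 1) (hcw : Commute c w)
    (hew : e * w * e⁻¹ = w⁻¹) (hyw : Commute y w) : y • a = a := by
  by_contra hne
  set k := y * c * y⁻¹ with hk
  have hkc : IsConj z k := hc.trans (isConj_iff.2 ⟨y, rfl⟩)
  have hka : k • (y • a) = y • a := by rw [hk, smul_smul, inv_mul_cancel_right, mul_smul, hca]
  have hkw : Commute k w := (hyw.mul_left hcw).mul_left hyw.inv_left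
  have hodd := h.odd_mul hkc he hka hea hne
  obtain ⟨v, hv, hvk⟩ := exists_conj_eq_of_odd (h.orderOf_conj hkc) (h.orderOf_conj he) hodd
  have hkW : k ∈ normalizer (zpowers w : Set G) := mem_normalizer_iff_map_conj_eq.2 (by
    rw [MonoidHom.map_zpowers]
    exact congrArg zpowers (show k * w * k⁻¹ = w by rw [hkw.eq, mul_inv_cancel_right]))
  have heW : e ∈ normalizer (zpowers w : Set G) := mem_normalizer_iff_map_conj_eq.2 (by
    rw [MonoidHom.map_zpowers]
    exact (congrArg zpowers (show e * w * e⁻¹ = w⁻¹ from hew)).trans zpowers_inv)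
  have hvW : v ∈ normalizer (zpowers w : Set G) := zpowers_le.2 (mul_mem hkW heW) hv
  obtain ⟨i, hi⟩ := mem_zpowers_iff.1 ((mem_normalizer_iff''.1 hvW w).1 (mem_zpowers w))
  have h1 : e * w * e⁻¹ = w := by
    calc e * w * e⁻¹ = v * (k * (v⁻¹ * w * v) * k⁻¹) * v⁻¹ := by rw [← hvk]; group
      _ = v * (v⁻¹ * w * v) * v⁻¹ := by rw [← hi, (hkw.zpow_right i).eq, mul_inv_cancel_right]
      _ = w := by group
  refine hw1 (eq_one_of_odd_of_pow_two (k := 1) hw ?_)
  rw [pow_one, pow_two, mul_eq_one_iff_eq_inv]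
  exact h1.symm.trans hew

/-- An element of order `p` of `G_{b,eb}` inverted by `e` and centralized by a commuting conjugate at
`a` makes `O_{p'}(O(G_{b,eb}))` fix `a`. -/
theorem pairW_le_stabilizer {p : ℕ} [hp : Fact p.Prime] (hp2 : p ≠ 2) {a b : G ⧸ M} {c e g : G}
    (hc : IsConj z c) (he : IsConj z e) (hca : c • a = a) (hea : e • a = a) (hg : orderOf g = p)
    (hcg : Commute c g) (heg : e * g * e⁻¹ = g⁻¹) (hgb : g • b = b) (hgb' : g • e • b = e • b) :
    pairW p b (e • b) ≤ MulAction.stabilizer G a := by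
  set W := pairW p b (e • b) with hW
  have hgodd : Odd (orderOf g) := hg ▸ hp.out.odd_of_ne_two hp2
  have hg1 : g ≠ 1 := fun e1 => hp.out.ne_one (by rw [← hg, e1, orderOf_one])
  have hga : g • a = a := h.smul_of_commute hc hcg.symm hca
  have heo := h.orderOf_conj he
  have hgW : g ∈ normalizer (W : Set G) := pairFix_le_normalizer_pairW p ⟨hgb, hgb'⟩
  have heW : e ∈ normalizer (W : Set G) := by
    rw [← CfsgLib.Coprime.conjBy_eq_self_iff, hW, conjBy_pairW, smul_smul, invol_mul_self heo, one_smul,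
      pairW_comm]
  have hcop : (Nat.card W).Coprime p := (hp.out.coprime_iff_not_dvd.2 not_dvd_coCore).symm
  refine le_of_dihedral (z := g) (odd_card_pairW p b (e • b)) hcop ⟨1, by rw [pow_one, hg]⟩ heo heg hgW heW
    (fun w _ hgw => smul_of_commute_inverted h hc he hca hea hgodd hg1 hcg heg hgw.symm) fun w _ n hnw => ?_
  have heq : ∃ v : G, v * e * v⁻¹ = e * g ^ n := by
    obtain ⟨i, hi⟩ := hgodd
    refine ⟨(g ^ n) ^ i, ?_⟩
    have e1 : e * ((g ^ n) ^ i)⁻¹ * e⁻¹ = (g ^ n) ^ i := by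
      rw [← inv_pow, ← conj_pow, show e * (g ^ n)⁻¹ * e⁻¹ = (e * g ^ n * e⁻¹)⁻¹ by group, ← conj_pow, heg]
      simp
    have e2 : e * (g ^ n)⁻¹ * e⁻¹ = g ^ n := by
      rw [show e * (g ^ n)⁻¹ * e⁻¹ = (e * g ^ n * e⁻¹)⁻¹ by group, ← conj_pow, heg, inv_pow, inv_inv]
    have e3 : (g ^ n) ^ i * (g ^ n) ^ i = (g ^ n)⁻¹ := eq_inv_of_mul_eq_one_left (by
      rw [← pow_add, ← pow_succ, ← pow_mul, show n * (i + i + 1) = orderOf g * n by rw [hi]; ring, pow_mul,
        pow_orderOf_eq_one, one_pow])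
    calc (g ^ n) ^ i * e * ((g ^ n) ^ i)⁻¹ = (g ^ n) ^ i * (e * ((g ^ n) ^ i)⁻¹ * e⁻¹) * e := by group
      _ = (g ^ n)⁻¹ * e := by rw [e1, e3]
      _ = e * g ^ n := by
        conv_rhs => rw [← e2]
        rw [invol_inv heo, show e * (e * (g ^ n)⁻¹ * e) = (e * e) * (g ^ n)⁻¹ * e by group,
          invol_mul_self heo, one_mul]
  obtain ⟨v, hv⟩ := heq
  refine h.smul_of_commute (d := e * g ^ n) (he.trans (isConj_iff.2 ⟨v, hv⟩)) hnw.symm ?_
  rw [mul_smul, show (g ^ n) • a = a from pow_mem (MulAction.mem_stabilizer_iff.2 hga) n, hea]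

/-- In that situation `O_{p'}(O(G_{b,eb}))` lies in `O(G_{ab})`. -/
theorem pairW_le_pairU_other {p : ℕ} [hp : Fact p.Prime] (hp2 : p ≠ 2) {a b : G ⧸ M} (hab : a ≠ b)
    {c e g : G} (hc : IsConj z c) (he : IsConj z e) (hca : c • a = a) (hea : e • a = a) (hg : orderOf g = p)
    (hcg : Commute c g) (heg : e * g * e⁻¹ = g⁻¹) (hgb : g • b = b) (hgb' : g • e • b = e • b) :
    pairW p b (e • b) ≤ pairU a b :=
  le_pairU_of_normalized h hab he hea (odd_card_pairW p b (e • b))
    (fun _ hy => ⟨pairW_le_stabilizer h hp2 hc he hca hea hg hcg heg hgb hgb' hy,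
      (pairU_le (pairW_le_pairU hy)).1⟩)
    fun _ hn hnb => pairFix_le_normalizer_pairW p ⟨hnb, hn.2⟩

end

end CfsgLib.SECrit.TWeak
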