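import Cfsg.Agent.Lib.Invol.SECriterion.TWeak.Data
import Cfsg.Agent.Lib.Invol.SECriterion.Local.Base
import Cfsg.Agent.Lib.Invol.SECriterion.Lone.Gen

/-!
# The weak T theorem from the non-existence of local data

If no proper subgroup carries the data `Step M z p L i j`, then no element of odd order centralizing a bad
involution with a commuting pair and fixing all its fixed points is inverted by a conjugate of `z`
centralizing it; in a generated group this is `TWeak M z`.
-/

set_option autoImplicit false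

namespace CfsgLib.SECrit.Setup

open CfsgLib.Invol Subgroup

universe u

variable {G : Type u} [Group G] [Finite G] {M : Subgroup G} {z : G} (h : Setup M z)
include h

/-- A bad involution with a commuting pair has no inverted odd element in its kernel. -/
theorem eq_one_of_no_step
    (hstep : ∀ (p : ℕ) (L : Subgroup G) (i j : G ⧸ M), p.Prime → p ≠ 2 → ¬ Step M z p L i j)
    {x : G} (hx : orderOf x = 2) {a b : G ⧸ M} (hab : a ≠ b) (hxa : x • a = a) (hxb : x • b = b)
    (hpair : ∃ d e : G, IsConj z d ∧ IsConj z e ∧ Commute x d ∧ Commute x e ∧ Commute d e ∧ d ≠ e)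
    {d w : G} (hd : IsConj z d) (hxd : Commute x d) (hw : Odd (orderOf w)) (hxw : Commute x w)
    (hfix : ∀ a : G ⧸ M, x • a = a → w • a = a) (hinv : d * w * d⁻¹ = w⁻¹) : w = 1 := by
  by_contra hw1
  obtain ⟨p, hp, hpd⟩ := Nat.exists_prime_and_dvd (fun hh => hw1 (orderOf_eq_one_iff.1 hh))
  have hp2 : p ≠ 2 := fun hh => hw.not_two_dvd_nat (hh ▸ hpd)
  set u := w ^ (orderOf w / p) with hu
  have huo : orderOf u = p := orderOf_pow_orderOf_div (orderOf_pos w).ne' hpd
  obtain ⟨i, hi⟩ := h.crit.fix_exists hd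
  have hxi : x • i = i := h.crit.smul_of_commute hd hxd hi
  obtain ⟨j, hxj, hji⟩ : ∃ j : G ⧸ M, x • j = j ∧ j ≠ i := by
    by_cases hai : a = i
    · exact ⟨b, hxb, fun e => hab (hai.trans e.symm)⟩
    · exact ⟨a, hxa, hai⟩
  have hmemC : ∀ {g : G}, Commute x g → g ∈ centralizer ({x} : Set G) := fun hg =>
    mem_centralizer_singleton_iff.2 hg.eq.symm
  refine hstep p (centralizer ({x} : Set G)) i j hp hp2
    ⟨h.centralizer_ne_top hx hxi, ?_, ?_, hji, d, u, hd, hmemC hxd, hi, hmemC (hxw.pow_right _), ?_,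
      fun e => hp.ne_one (by rw [← huo, e, orderOf_one]), ⟨1, by rw [pow_one, huo]⟩, ?_⟩
  · obtain ⟨d₀, e₀, hd₀, he₀, hxd₀, hxe₀, hde₀, hne₀⟩ := hpair
    obtain ⟨a₀, ha₀⟩ := h.crit.fix_exists hd₀
    obtain ⟨g, hg, hga⟩ := h.exists_loc_smul hx (h.crit.smul_of_commute hd₀ hxd₀ ha₀) hxi
    have hxg := commute_of_mem_locGroup hg
    refine ⟨g * d₀ * g⁻¹, g * e₀ * g⁻¹, hd₀.trans (isConj_iff.2 ⟨g, rfl⟩), he₀.trans (isConj_iff.2 ⟨g, rfl⟩),
      hmemC ((hxg.mul_right hxd₀).mul_right hxg.inv_right),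
      hmemC ((hxg.mul_right hxe₀).mul_right hxg.inv_right), ?_, ?_, ?_⟩
    · rw [← hga, smul_smul, inv_mul_cancel_right, mul_smul, ha₀]
    · exact (hde₀.map (MulAut.conj g).toMonoidHom)
    · exact fun e => hne₀ (mul_left_cancel (mul_right_cancel e))
  · obtain ⟨g, hg, hgj⟩ := h.exists_loc_smul hx hxi hxj
    exact ⟨g, hmemC (commute_of_mem_locGroup hg), hgj⟩
  · exact MulAction.mem_stabilizer_iff.1 (pow_mem (MulAction.mem_stabilizer_iff.2 (hfix i hxi)) _)
  · rw [hu, ← conj_pow, hinv, inv_pow]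

/-- In a generated group `TWeak` follows from the non-existence of local data. -/
theorem tweak_of_no_step (hgen : normalClosure ({z} : Set G) = ⊤)
    (hstep : ∀ (p : ℕ) (L : Subgroup G) (i j : G ⧸ M), p.Prime → p ≠ 2 → ¬ Step M z p L i j) : TWeak M z :=
  fun x _ _ p q hx hpq hxp hxq hd hxd hw hxw hfix hinv =>
    h.eq_one_of_no_step hstep hx hpq hxp hxq (h.exists_pair_of_top hgen ⟨hx, p, q, hpq, hxp, hxq⟩)
      hd hxd hw hxw hfix hinv

end CfsgLib.SECrit.Setup
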