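import Cfsg.Agent.Lib.Invol.SECriterion.TWeak.Exit
import Cfsg.Agent.Lib.Invol.SECriterion.TWeak.Glue

/-!
# The weak T theorem in a generated group

It follows from: the members at each point centralize the odd normal subgroups of its stabilizer.
-/

set_option autoImplicit false

namespace CfsgLib.SECrit.Setup

open Subgroup

universe u

variable {G : Type u} [Group G] [Finite G] {M : Subgroup G} {z : G}

/-- `TWeak` from the centralization of the odd normal subgroups of the point stabilizers. -/
theorem tweak_of_centralize (h : Setup M z) (hgen : normalClosure ({z} : Set G) = ⊤)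
    (hJO : ∀ (a : G ⧸ M) (A : Subgroup G), A ≤ MulAction.stabilizer G a → Odd (Nat.card A) →
      MulAction.stabilizer G a ≤ normalizer (A : Set G) →
      ∀ d : G, IsConj z d → d • a = a → ∀ x ∈ A, Commute d x) : TWeak M z :=
  h.tweak_of_no_step hgen fun _ _ _ _ hp hp2 => not_step h hJO hp hp2

end CfsgLib.SECrit.Setup
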