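import Cfsg.Agent.Lib.Invol.SECriterion.Sub.Orbit
import Cfsg.Agent.Lib.Invol.SECriterion.Consumers.CoreAction

/-!
# Local data for the weak T theorem of the criterion

`Step M z p L i j`: a proper subgroup `L` with two commuting members at `i`, moving `i` to `j`, in which a
`p`-element fixing `i` is inverted by a member at `i`.  `oddKer M L i` is the odd core of the kernel of the
action of `L` on the orbit of `i`.
-/

set_option autoImplicit false
set_option linter.style.haveILetI false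

namespace CfsgLib.SECrit

open CfsgLib.Invol Subgroup

universe u

variable {G : Type u} [Group G] {M : Subgroup G} {z : G}

/-- The data of the maximisation. -/
structure Step (M : Subgroup G) (z : G) (p : ℕ) (L : Subgroup G) (i j : G ⧸ M) : Prop where
  ne_top : L ≠ ⊤
  pair : ∃ d e : G, IsConj z d ∧ IsConj z e ∧ d ∈ L ∧ e ∈ L ∧ d • i = i ∧ Commute d e ∧ d ≠ e
  orbit : ∃ g ∈ L, g • i = j
  ne : j ≠ i
  inverted : ∃ v u : G, IsConj z v ∧ v ∈ L ∧ v • i = i ∧ u ∈ L ∧ u • i = i ∧ u ≠ 1 ∧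
    (∃ k : ℕ, orderOf u = p ^ k) ∧ v * u * v⁻¹ = u⁻¹

/-- The odd core of the kernel of `L` on the orbit of `i`. -/
def oddKer (M L : Subgroup G) (i : G ⧸ M) : Subgroup G :=
  ((Cfsg.pPrimeCore 2 ↥(((MulAction.stabilizer G i).subgroupOf L).normalCore)).map
    ((MulAction.stabilizer G i).subgroupOf L).normalCore.subtype).map L.subtype

theorem oddKer_le (L : Subgroup G) (i : G ⧸ M) : oddKer M L i ≤ L := Subgroup.map_subtype_le _

theorem oddKer_fix (L : Subgroup G) (i : G ⧸ M) {b : G} (hb : b ∈ oddKer M L i) {g : G} (hg : g ∈ L) :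
    b • (g • i) = g • i := by
  obtain ⟨c, hc, rfl⟩ := hb
  obtain ⟨c', -, rfl⟩ := hc
  have h1 : ((⟨g, hg⟩ : L)⁻¹ * (c' : L) * (⟨g, hg⟩ : L)⁻¹⁻¹) ∈ (MulAction.stabilizer G i).subgroupOf L :=
    c'.2 _
  rw [inv_inv] at h1
  have h2 : (g⁻¹ * ((c' : L) : G) * g) • i = i := h1
  rw [mul_smul, mul_smul, inv_smul_eq_iff] at h2
  exact h2

theorem oddKer_normalizer (L : Subgroup G) (i : G ⧸ M) : L ≤ normalizer (oddKer M L i : Set G) := by
  haveI : (Cfsg.pPrimeCore 2 ↥(((MulAction.stabilizer G i).subgroupOf L).normalCore)).Characteristic :=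
    CfsgLib.Coprime.pPrimeCore_characteristic 2
  set K := ((Cfsg.pPrimeCore 2 ↥(((MulAction.stabilizer G i).subgroupOf L).normalCore)).map
    ((MulAction.stabilizer G i).subgroupOf L).normalCore.subtype) with hK
  haveI : K.Normal := inferInstance
  intro l hl
  refine le_normalizer_map L.subtype ⟨⟨l, hl⟩, ?_, rfl⟩
  rw [normalizer_eq_top]; exact mem_top _

variable [Finite G]

theorem oddKer_odd (L : Subgroup G) (i : G ⧸ M) : Odd (Nat.card (oddKer M L i)) := by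
  rw [← Nat.not_even_iff_odd, even_iff_two_dvd]
  intro h
  exact CfsgLib.Coprime.pPrimeCore_not_dvd Nat.prime_two
    (h.trans ((card_map_dvd _ _).trans (card_map_dvd _ _)))

theorem Setup.odd_of_pow (h : Setup M z) {p : ℕ} (hp : p.Prime) (hp2 : p ≠ 2) {u : G}
    (hu : ∃ k : ℕ, orderOf u = p ^ k) : Odd (orderOf u) := by
  obtain ⟨k, hk⟩ := hu
  rw [hk]
  exact (hp.odd_of_ne_two hp2).pow

namespace Step

variable (h : Setup M z) {p : ℕ} {L : Subgroup G} {i j : G ⧸ M} (D : Step M z p L i j)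
include h D

theorem move : ∃ g ∈ L, g • i ≠ i := by
  obtain ⟨g, hg, hgj⟩ := D.orbit
  exact ⟨g, hg, hgj ▸ D.ne⟩

/-- The members at `i` are conjugate under the stabilizer of `i` in `L`. -/
theorem members_conj {v e : G} (hv : IsConj z v) (hvL : v ∈ L) (hvi : v • i = i) (he : IsConj z e) (heL : e ∈ L)
    (hei : e • i = i) : ∃ l ∈ L, l • i = i ∧ l * v * l⁻¹ = e := by
  obtain ⟨g, hg, hgi⟩ := move h D
  set f := g * v * g⁻¹ with hf
  have hfc : IsConj z f := hv.trans (isConj_iff.2 ⟨g, rfl⟩)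
  have hfL : f ∈ L := mul_mem (mul_mem hg hvL) (inv_mem hg)
  have hfa : f • (g • i) = g • i := by rw [hf, smul_smul, inv_mul_cancel_right, mul_smul, hvi]
  have key : ∀ c : L, IsConj z (c : G) → (c : G) • i = i → IsConj c ⟨f, hfL⟩ := fun c hc hca =>
    Invol.isConj_of_odd (by rw [← orderOf_coe]; exact h.crit.orderOf_conj hc)
      (by rw [orderOf_mk]; exact h.crit.orderOf_conj hfc)
      (by rw [← orderOf_coe]; exact h.crit.odd_mul hc hfc hca hfa hgi.symm)
  obtain ⟨l, hl⟩ := isConj_iff.1 ((key ⟨v, hvL⟩ hv hvi).trans (key ⟨e, heL⟩ he hei).symm)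
  have hl' : (l : G) * v * (l : G)⁻¹ = e := congrArg Subtype.val hl
  exact ⟨l, l.2, h.crit.smul_eq_of_conj he hl' hvi hei, hl'⟩

/-- Every member at `i` inverts a `p`-element. -/
theorem inverted_of_member {e : G} (he : IsConj z e) (heL : e ∈ L) (hei : e • i = i) :
    ∃ u ∈ L, u • i = i ∧ u ≠ 1 ∧ (∃ k : ℕ, orderOf u = p ^ k) ∧ e * u * e⁻¹ = u⁻¹ := by
  obtain ⟨v, u, hv, hvL, hvi, huL, hui, hu1, ⟨k, hk⟩, hinv⟩ := D.inverted
  obtain ⟨l, hl, hli, rfl⟩ := members_conj h D hv hvL hvi he heL hei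
  refine ⟨l * u * l⁻¹, mul_mem (mul_mem hl huL) (inv_mem hl), ?_, ?_, ⟨k, ?_⟩, ?_⟩
  · rw [mul_smul, mul_smul, inv_smul_eq_iff.2 hli.symm, hui, hli]
  · exact fun e1 => hu1 (conj_eq_one_iff.1 e1)
  · rw [← hk]; exact (MulAut.conj l).orderOf_eq u
  · rw [show l * v * l⁻¹ * (l * u * l⁻¹) * (l * v * l⁻¹)⁻¹ = l * (v * u * v⁻¹) * l⁻¹ by group, hinv]
    group

/-- An odd element inverted by a member at `i` lies in the odd core of the kernel. -/
theorem mem_oddKer_of_inverted {v w : G} (hv : IsConj z v) (hvL : v ∈ L) (hvi : v • i = i) (hwL : w ∈ L)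
    (hwi : w • i = i) (hw : Odd (orderOf w)) (hinv : v * w * v⁻¹ = w⁻¹) : w ∈ oddKer M L i := by
  obtain ⟨d, e, hd, he, hdL, heL, hdi, hde, hne⟩ := D.pair
  have hfix := fun g (hg : g ∈ L) => h.fix_orbit_of_inverted D.ne_top hd he hdL heL hdi hde hne (move h D)
    hv hvL hvi hwL hwi hw hinv (g := g) hg
  set H := (MulAction.stabilizer G i).subgroupOf L with hH
  have hcore : (⟨w, hwL⟩ : L) ∈ H.normalCore := fun g => by
    show ((g : G) * w * (g : G)⁻¹) • i = i
    rw [mul_smul, mul_smul, hfix _ (inv_mem g.2), smul_inv_smul]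
  have hc := h.sub_crit hv hvL hvi (move h D)
  have hHne : H ≠ ⊤ := fun e1 => by
    obtain ⟨g, hg, hgi⟩ := move h D
    exact hgi (show (⟨g, hg⟩ : L) ∈ H from e1 ▸ mem_top _)
  have h1 := hc.commutator_core_mem hHne hcore
  have h2 : (⟨v, hvL⟩ : L) * ⟨w, hwL⟩ * (⟨v, hvL⟩ : L)⁻¹ * (⟨w, hwL⟩ : L)⁻¹ = ((⟨w, hwL⟩ : L) ^ 2)⁻¹ := by
    apply Subtype.ext
    show v * w * v⁻¹ * w⁻¹ = (w ^ 2)⁻¹
    rw [hinv, pow_two, mul_inv_rev]
  rw [h2] at h1
  have h3 : w ^ 2 ∈ oddKer M L i := by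
    have := inv_mem (mem_map_of_mem L.subtype h1)
    simpa [oddKer, hH] using this
  obtain ⟨k, hk⟩ := hw
  have : w = (w ^ 2) ^ (k + 1) := by
    rw [← pow_mul, show 2 * (k + 1) = orderOf w + 1 by omega, pow_succ, pow_orderOf_eq_one, one_mul]
  rw [this]
  exact pow_mem h3 _

/-- Two members at `i` commute modulo the odd core of the kernel. -/
theorem sq_mul_mem_oddKer {d e : G} (hd : IsConj z d) (he : IsConj z e) (hdL : d ∈ L) (heL : e ∈ L)
    (hdi : d • i = i) (hei : e • i = i) : (d * e) ^ 2 ∈ oddKer M L i := by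
  obtain ⟨d₀, e₀, hd₀, he₀, hd₀L, he₀L, hd₀i, hde₀, hne₀⟩ := D.pair
  have hq := h.sub_quot D.ne_top hd₀ he₀ hd₀L he₀L hd₀i hde₀ hne₀ (move h D)
  set H := (MulAction.stabilizer G i).subgroupOf L with hH
  set π := QuotientGroup.mk' H.normalCore with hπ
  have hconj : ∀ c : G, IsConj z c → ∀ hcL : c ∈ L, c • i = i → IsConj (π ⟨d₀, hd₀L⟩) (π ⟨c, hcL⟩) := by
    intro c hc hcL hci
    obtain ⟨l, hl, -, hlc⟩ := members_conj h D hd₀ hd₀L hd₀i hc hcL hci
    exact π.map_isConj (isConj_iff.2 ⟨⟨l, hl⟩, Subtype.ext hlc⟩)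
  have hc := hq.commute_of_mem (hconj d hd hdL hdi) (hconj e he heL hei) (mem_map_of_mem π hdi)
    (mem_map_of_mem π hei)
  have hdo := h.crit.orderOf_conj hd
  have heo := h.crit.orderOf_conj he
  have hkerG : ∀ k ∈ H.normalCore, ∀ g ∈ L, (k : G) • (g • i) = g • i := by
    intro k hk g hg
    have h1 : ((⟨g, hg⟩ : L)⁻¹ * k * (⟨g, hg⟩ : L)⁻¹⁻¹) ∈ H := hk _
    rw [inv_inv] at h1
    have h2 : (g⁻¹ * (k : G) * g) • i = i := h1
    rw [mul_smul, mul_smul, inv_smul_eq_iff] at h2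
    exact h2
  have hker : ((⟨d, hdL⟩ : L) * ⟨e, heL⟩) ^ 2 ∈ H.normalCore := by
    refine (QuotientGroup.eq_one_iff _).1 (show π _ = 1 from ?_)
    rw [map_pow, map_mul, hc.mul_pow, ← map_pow, ← map_pow,
      show (⟨d, hdL⟩ : L) ^ 2 = 1 from Subtype.ext (by simpa [pow_two] using invol_mul_self hdo),
      show (⟨e, heL⟩ : L) ^ 2 = 1 from Subtype.ext (by simpa [pow_two] using invol_mul_self heo),
      map_one, mul_one]
  -- the square has odd order
  have hodd : Odd (orderOf ((d * e) ^ 2)) := by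
    rw [← Nat.not_even_iff_odd]
    intro hev
    obtain ⟨r, hr⟩ := hev
    have heven : Even (orderOf (d * e)) :=
      even_iff_two_dvd.2 ((Dvd.intro r (by omega : 2 * r = orderOf ((d * e) ^ 2))).trans (orderOf_pow_dvd 2))
    set w := (d * e) ^ (orderOf (d * e) / 2) with hw
    have hwo : orderOf w = 2 := orderOf_pow_half heven
    have hwd : Commute w d := commute_pow_half (invol_conj_mul hdo heo) heven
    have hwc : IsConj z (d * w) := hw ▸ h.crit.isConj_mul_half hd he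
    have hne : d ≠ d * w := fun hh => invol_ne_one hwo (left_eq_mul.1 hh)
    have h4 : 2 * orderOf ((d * e) ^ 2) = orderOf (d * e) := by
      rw [orderOf_pow' _ two_ne_zero, Nat.gcd_eq_right (even_iff_two_dvd.1 heven),
        Nat.mul_div_cancel' (even_iff_two_dvd.1 heven)]
    have hwp : w = ((d * e) ^ 2) ^ r := by
      rw [hw, ← pow_mul]; congr 1; omega
    have hwK : ∀ g ∈ L, w • (g • i) = g • i := by
      intro g hg
      have := hkerG _ (pow_mem hker r) g hg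
      simpa [hwp] using this
    obtain ⟨g, hg, hgi⟩ := move h D
    refine hgi (h.crit.exists_mul_fix hd hwc ((Commute.refl d).mul_right hwd.symm) hne hdi ?_)
    rw [← mul_assoc, invol_mul_self hdo, one_mul]
    exact hwK g hg
  refine mem_oddKer_of_inverted h D hd hdL hdi (pow_mem (mul_mem hdL heL) 2) ?_ hodd ?_
  · rw [pow_two, mul_smul, mul_smul, mul_smul, hei, hdi, hei, hdi]
  · rw [← conj_pow, ← inv_pow, invol_conj_mul hdo heo]

/-- The data at the second point. -/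
theorem symm : Step M z p L j i := by
  obtain ⟨g, hg, hgj⟩ := D.orbit
  obtain ⟨d, e, hd, he, hdL, heL, hdi, hde, hne⟩ := D.pair
  obtain ⟨v, u, hv, hvL, hvi, huL, hui, hu1, ⟨k, hk⟩, hinv⟩ := D.inverted
  have hc : ∀ x ∈ L, g * x * g⁻¹ ∈ L := fun x hx => mul_mem (mul_mem hg hx) (inv_mem hg)
  have hf : ∀ x : G, x • i = i → (g * x * g⁻¹) • j = j := fun x hx => by
    rw [← hgj, smul_smul, inv_mul_cancel_right, mul_smul, hx]
  have hcj : ∀ x : G, IsConj z x → IsConj z (g * x * g⁻¹) := fun x hx => hx.trans (isConj_iff.2 ⟨g, rfl⟩)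
  refine ⟨D.ne_top, ⟨_, _, hcj d hd, hcj e he, hc d hdL, hc e heL, hf d hdi, ?_, ?_⟩,
    ⟨g⁻¹, inv_mem hg, by rw [← hgj, inv_smul_smul]⟩, D.ne.symm,
    ⟨_, _, hcj v hv, hc v hvL, hf v hvi, hc u huL, hf u hui, ?_, ⟨k, ?_⟩, ?_⟩⟩
  · have h2 := hde.map (MulAut.conj g).toMonoidHom
    simpa [MulAut.conj_apply] using h2
  · exact fun e1 => hne (mul_left_cancel (mul_right_cancel e1))
  · exact fun e1 => hu1 (conj_eq_one_iff.1 e1)
  · rw [← hk]; exact (MulAut.conj g).orderOf_eq u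
  · rw [show g * v * g⁻¹ * (g * u * g⁻¹) * (g * v * g⁻¹)⁻¹ = g * (v * u * v⁻¹) * g⁻¹ by group, hinv]
    group

end Step

end CfsgLib.SECrit
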