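import Cfsg.Agent.Lib.CFun.OddStable
import Cfsg.Agent.Lib.CFun.PNilpotent
import Cfsg.Agent.Lib.CFun.Transitivity

/-!
# Tools for the weak T theorem of the criterion

`Z(J)` is normal modulo the `p'`-core in a solvable group with abelian Sylow 2-subgroups, and invariant
`p'`-subgroups of a normal self-centralizing subgroup of a Sylow subgroup lie in the `p'`-core.
-/

set_option autoImplicit false
set_option linter.style.haveILetI false

namespace CfsgLib.SECrit.TWeak

open Subgroup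

universe u

variable {G : Type u} [Group G] [Finite G] {p : ℕ} [Fact p.Prime]

theorem isPStableOn_of_twoAbelian (hp2 : p ≠ 2)
    (hab : ∀ T : Subgroup G, IsPGroup 2 T → ∀ x ∈ T, ∀ y ∈ T, x * y = y * x) (V : Subgroup G) [V.Normal]
    (hV : IsPGroup p V) : Cfsg.IsPStableOn p V := by
  by_contra hcon
  exact CfsgLib.CFun.qdFree_of_two_abelian hp2 hab
    (CfsgLib.Qd.sections_of_not_isPStableOn hp2 V hV hcon).1

/-- Two-subgroups of a quotient are abelian when those of the group are. -/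
theorem twoAbelian_quotient (hab : ∀ T : Subgroup G, IsPGroup 2 T → ∀ x ∈ T, ∀ y ∈ T, x * y = y * x)
    (K : Subgroup G) [K.Normal] :
    ∀ T : Subgroup (G ⧸ K), IsPGroup 2 T → ∀ x ∈ T, ∀ y ∈ T, x * y = y * x := by
  haveI : Fact (Nat.Prime 2) := ⟨Nat.prime_two⟩
  intro T hT x hx y hy
  obtain ⟨P, hP⟩ := hT.exists_le_sylow
  obtain ⟨S⟩ : Nonempty (Sylow 2 G) := inferInstance
  obtain ⟨g, hg⟩ := MulAction.exists_smul_eq (G ⧸ K) (S.mapSurjective (QuotientGroup.mk'_surjective K)) P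
  have hsub : ∀ z ∈ T, ∃ s ∈ (S : Subgroup G), g * QuotientGroup.mk' K s * g⁻¹ = z := by
    intro z hz
    have h1 := hP hz
    rw [← hg, Sylow.coe_subgroup_smul, mem_smul_pointwise_iff_exists] at h1
    obtain ⟨w, hw, rfl⟩ := h1
    rw [Sylow.coe_mapSurjective] at hw
    obtain ⟨s, hs, rfl⟩ := hw
    exact ⟨s, hs, rfl⟩
  obtain ⟨a, ha, rfl⟩ := hsub x hx
  obtain ⟨b, hb, rfl⟩ := hsub y hy
  calc g * QuotientGroup.mk' K a * g⁻¹ * (g * QuotientGroup.mk' K b * g⁻¹)
      = g * QuotientGroup.mk' K (a * b) * g⁻¹ := by rw [map_mul]; group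
    _ = g * QuotientGroup.mk' K (b * a) * g⁻¹ := by rw [hab _ S.2 a ha b hb]
    _ = g * QuotientGroup.mk' K b * g⁻¹ * (g * QuotientGroup.mk' K a * g⁻¹) := by rw [map_mul]; group

/-- `Z(J)` is normal modulo the `p'`-core. -/
theorem zjA_factor [Group.IsSolvable G] (hp2 : p ≠ 2)
    (hab : ∀ T : Subgroup G, IsPGroup 2 T → ∀ x ∈ T, ∀ y ∈ T, x * y = y * x) (S : Sylow p G) :
    (Cfsg.pPrimeCore p G ⊔ Cfsg.centerThompsonAOf (S : Subgroup G)).Normal ∧
      Cfsg.pPrimeCore p G ⊔ normalizer (Cfsg.centerThompsonAOf (S : Subgroup G) : Set G) = ⊤ := by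
  have hp := (Fact.out : p.Prime)
  set K := Cfsg.pPrimeCore p G with hK
  set π := QuotientGroup.mk' K with hπ
  have hπs := QuotientGroup.mk'_surjective K
  set Z := Cfsg.centerThompsonAOf (S : Subgroup G) with hZdef
  have hcl : centralizer (Cfsg.pCore p (G ⧸ K) : Set (G ⧸ K)) ≤ Cfsg.pCore p (G ⧸ K) :=
    CfsgLib.Coprime.centralizer_pCore_le (CfsgLib.Coprime.pPrimeCore_quotient_eq_bot hp)
  haveI hn := CfsgLib.Fusion.centerThompsonAOf_normal hp2 hcl
    (fun R _ hR => isPStableOn_of_twoAbelian hp2 (twoAbelian_quotient hab K) R hR)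
    (S.mapSurjective hπs) le_rfl fun Q hQ g hg y hy => hQ ((mem_normalizer_iff.1 hg y).1 hy.2)
  have hinj : Function.Injective (π.comp (S : Subgroup G).subtype) :=
    (injective_iff_map_eq_one _).2 fun x hx => Subtype.ext (CfsgLib.CFun.eq_one_of_mem_pPrimeCore S.2 x.2
      ((QuotientGroup.eq_one_iff _).1 hx))
  have hZm : Z.map π = Cfsg.centerThompsonAOf ((S.mapSurjective hπs : Sylow p (G ⧸ K)) :
      Subgroup (G ⧸ K)) := by
    have h2 := CfsgLib.Fusion.map_zjFun (π.comp (S : Subgroup G).subtype) hinj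
    rw [← Subgroup.map_map, CfsgLib.Fusion.map_zjFun (S : Subgroup G).subtype
      (S : Subgroup G).subtype_injective, Subgroup.range_subtype, MonoidHom.range_comp,
      Subgroup.range_subtype] at h2
    rw [Sylow.coe_mapSurjective]
    exact h2
  rw [← hZm] at hn
  exact CfsgLib.CFun.sup_normalizer_of_map_normal (S.2.to_le (inf_le_left.trans (Subgroup.map_subtype_le _))) hn

/-- (X): a subgroup of order prime to `p` normalized by a normal subgroup of a Sylow subgroup containing its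
centralizer there lies in the `p'`-core. -/
theorem le_pPrimeCore_of_selfCentralizing [Group.IsSolvable G] (hp2 : p ≠ 2) (R : Sylow p G) {Q K : Subgroup G}
    (hQR : Q ≤ (R : Subgroup G)) (hRQ : (R : Subgroup G) ≤ normalizer (Q : Set G))
    (hC : (R : Subgroup G) ⊓ centralizer (Q : Set G) ≤ Q)
    (hK : (Nat.card K).Coprime p) (hQK : Q ≤ normalizer (K : Set G)) : K ≤ Cfsg.pPrimeCore p G := by
  refine CfsgLib.CFun.le_pPrimeCore_of_invariant CfsgLib.CFun.pCons_of_isSolvable (R.2.to_le hQR)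
    ?_ (fun h => absurd h hp2) hK hQK
  intro x hx hxp
  set N := normalizer (Q : Set G) with hN
  have hxN : x ∈ N := centralizer_le_normalizer _ hx
  obtain ⟨n, hn⟩ := CfsgLib.Invol.exists_conj_le_sylow (hxp.comap_of_injective N.subtype N.subtype_injective)
    (R.subtype hRQ)
  have h1 : (n : G) * x * (n : G)⁻¹ ∈ (R : Subgroup G) := hn ⟨x, hxN⟩ (mem_zpowers x)
  have h2 : (n : G) * x * (n : G)⁻¹ ∈ centralizer (Q : Set G) := by
    rw [mem_centralizer_iff]
    intro q hq
    have hq' : (n : G)⁻¹ * q * n ∈ Q := (mem_normalizer_iff''.1 n.2 q).1 hq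
    have h3 := mem_centralizer_iff.1 hx _ hq'
    calc q * ((n : G) * x * (n : G)⁻¹) = n * (((n : G)⁻¹ * q * n) * x) * (n : G)⁻¹ := by group
      _ = n * (x * ((n : G)⁻¹ * q * n)) * (n : G)⁻¹ := by rw [h3]
      _ = (n : G) * x * (n : G)⁻¹ * q := by group
  exact (mem_normalizer_iff.1 n.2 x).2 (hC ⟨h1, h2⟩)

end CfsgLib.SECrit.TWeak
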