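import Cfsg.Agent.Lib.Invol.SECriterion.TWeak.Pair
import Cfsg.Agent.Lib.Invol.SECriterion.TWeak.Tools
import Cfsg.Agent.Lib.Invol.SECriterion.TWeak.Data
import Cfsg.Agent.Lib.Fusion.System.QdConstrained

/-!
# Tools for the last step of the weak T theorem

The odd group `O(G_{ab}) R`, `R` a Sylow `p`-subgroup of `G_{ab}`: invariant `p'`-subgroups and the
factorization by `Z(J(R))`; odd subgroups of a point stabilizer normalized by its conjugates of `z`;
the stabilizer of `i` in the local group is transitive on the rest of the orbit.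
-/

set_option autoImplicit false
set_option linter.style.haveILetI false

namespace CfsgLib.SECrit.TWeak

open Subgroup CfsgLib.Invol
open CfsgLib.Coprime (IsSylowIn)
open CfsgLib.CFun (coCore coCore_le le_coCore not_dvd_coCore le_normalizer_coCore)

universe u

variable {G : Type u} [Group G] [Finite G] {M : Subgroup G} {z : G} {p : ℕ}

section Sup

variable [hp : Fact p.Prime] {a b : G ⧸ M} {R : Subgroup G}

theorem odd_card_sup_sylow (hp2 : p ≠ 2) (hR : IsSylowIn p R (pairFix a b)) :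
    Odd (Nat.card (pairU a b ⊔ R : Subgroup G)) := by
  rw [sup_comm]
  refine Odd.of_dvd_nat (Odd.mul ?_ (odd_card_pairU a b))
    (CfsgLib.Coprime.card_sup_dvd_of_le_normalizer (hR.1.trans pairFix_le_normalizer))
  rw [hR.2]; exact (hp.out.odd_of_ne_two hp2).pow

theorem isSylowIn_sup (hR : IsSylowIn p R (pairFix a b)) : IsSylowIn p R (pairU a b ⊔ R) := by
  refine ⟨le_sup_right, ?_⟩
  rw [hR.2]
  have hle : pairU a b ⊔ R ≤ pairFix a b := sup_le pairU_le hR.1
  refine congrArg (p ^ ·) (le_antisymm ?_ ((Nat.factorization_le_iff_dvd Nat.card_pos.ne'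
    Nat.card_pos.ne').2 (card_dvd_of_le hle) p))
  refine (hp.out.pow_dvd_iff_le_factorization Nat.card_pos.ne').1 ?_
  rw [← hR.2]; exact card_dvd_of_le le_sup_right

/-- `O_{p'}(U R) ≤ O_{p'}(U)`. -/
theorem coCore_sup_le (hR : IsSylowIn p R (pairFix a b)) :
    coCore (pairU a b ⊔ R) p ≤ pairW p a b := by
  set U := pairU a b with hU
  set H := U ⊔ R with hH
  have hRU : R ≤ normalizer (U : Set G) := hR.1.trans pairFix_le_normalizer
  haveI hn : (U.subgroupOf H).Normal :=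
    normal_subgroupOf_of_le_normalizer (sup_le le_normalizer hRU)
  set π := QuotientGroup.mk' (U.subgroupOf H) with hπ
  have hquot : IsPGroup p (H ⧸ U.subgroupOf H) := by
    intro q
    obtain ⟨x, rfl⟩ := QuotientGroup.mk'_surjective _ q
    obtain ⟨x, hx⟩ := x
    obtain ⟨v, hv, r, hr, rfl⟩ : ∃ v ∈ U, ∃ r ∈ R, v * r = x :=
      Set.mem_mul.1 (by rw [← coe_mul_of_right_le_normalizer_left U R hRU]; exact hx)
    obtain ⟨k, hk⟩ := hR.isPGroup ⟨r, hr⟩
    refine ⟨k, ?_⟩
    have e1 : π ⟨v * r, hx⟩ = π ⟨r, mem_sup_right hr⟩ := by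
      refine QuotientGroup.eq.2 (mem_subgroupOf.2 ?_)
      show (v * r)⁻¹ * r ∈ U
      rw [mul_inv_rev, mul_assoc]
      exact (mem_normalizer_iff''.1 (hRU hr) _).1 (inv_mem hv) |> fun h1 => by simpa [mul_assoc] using h1
    rw [e1, ← map_pow]
    exact (QuotientGroup.eq_one_iff _).2 (mem_subgroupOf.2 (by
      show r ^ p ^ k ∈ U
      rw [show r ^ p ^ k = 1 from congrArg Subtype.val hk]; exact one_mem U))
  have hcU : coCore H p ≤ U := by
    rintro _ ⟨c, hc, rfl⟩
    obtain ⟨k, hk⟩ := hquot (π c)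
    have hcop : (p ^ k).Coprime (orderOf c) :=
      Nat.Coprime.pow_left k ((hp.out.coprime_iff_not_dvd).2 fun hd =>
        CfsgLib.Coprime.pPrimeCore_not_dvd (G := H) hp.out
          (hd.trans (Subgroup.orderOf_dvd_natCard (Cfsg.pPrimeCore p H) hc)))
    obtain ⟨i, hi⟩ := exists_pow_eq_self_of_coprime hcop
    have : c ∈ U.subgroupOf H := by
      rw [← hi]
      refine pow_mem ((QuotientGroup.eq_one_iff _).1 (show π (c ^ p ^ k) = 1 from ?_)) i
      rw [map_pow]; exact hk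
    exact this
  exact le_coCore hcU (le_sup_left.trans le_normalizer_coCore) not_dvd_coCore

/-- A `p'`-subgroup of `O(G_{ab})` normalized by a self-centralizing normal subgroup of `R` lies in
`O_{p'}(O(G_{ab}))`. -/
theorem le_pairW_of_selfCentralizing (hp2 : p ≠ 2) (hR : IsSylowIn p R (pairFix a b)) {Q W : Subgroup G}
    (hQR : Q ≤ R) (hRQ : R ≤ normalizer (Q : Set G)) (hC : R ⊓ centralizer (Q : Set G) ≤ Q)
    (hW : W ≤ pairU a b) (hWp : (Nat.card W).Coprime p) (hQW : Q ≤ normalizer (W : Set G)) :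
    W ≤ pairW p a b := by
  set H := pairU a b ⊔ R with hH
  haveI : Group.IsSolvable H := Cfsg.Agent.S0205.result (odd_card_sup_sylow hp2 hR)
  have hRH := isSylowIn_sup hR
  have hWH : W ≤ H := hW.trans le_sup_left
  have hS : (hRH.toSylow : Subgroup H) = R.subgroupOf H := rfl
  have h1 : W.subgroupOf H ≤ Cfsg.pPrimeCore p H := by
    refine le_pPrimeCore_of_selfCentralizing hp2 hRH.toSylow (Q := Q.subgroupOf H) ?_ ?_ ?_ ?_ ?_
    · rw [hS]; exact comap_mono hQR
    · intro r hr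
      rw [hS] at hr
      refine mem_normalizer_iff.2 fun y => ?_
      exact mem_normalizer_iff.1 (hRQ hr) (y : G)
    · rintro r ⟨hr, hrc⟩
      rw [hS] at hr
      refine hC ⟨hr, mem_centralizer_iff.2 fun q hq => ?_⟩
      exact congrArg Subtype.val (mem_centralizer_iff.1 hrc ⟨q, mem_sup_right (hQR hq)⟩ hq)
    · rwa [Nat.card_congr (subgroupOfEquivOfLe hWH).toEquiv]
    · intro r hr
      exact mem_normalizer_iff.2 fun y => mem_normalizer_iff.1 (hQW hr) (y : G)
  exact (show W ≤ coCore H p from fun y hy => ⟨⟨y, hWH hy⟩, h1 hy, rfl⟩).trans (coCore_sup_le hR)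

/-- `O(G_{ab}) = O_{p'}(O(G_{ab})) N(Z(J(R)))`. -/
theorem exists_mul_normalizer (hp2 : p ≠ 2) (hR : IsSylowIn p R (pairFix a b)) {u : G}
    (hu : u ∈ pairU a b) : ∃ w ∈ pairW p a b,
      ∃ n ∈ normalizer (Cfsg.centerThompsonAOf R : Set G), n ∈ pairFix a b ∧ u = w * n := by
  haveI : Fact (Nat.Prime 2) := ⟨Nat.prime_two⟩
  set H := pairU a b ⊔ R with hH
  have hHodd := odd_card_sup_sylow hp2 hR
  haveI : Group.IsSolvable H := Cfsg.Agent.S0205.result hHodd
  have hRH := isSylowIn_sup hR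
  have hab : ∀ T : Subgroup H, IsPGroup 2 T → ∀ x ∈ T, ∀ y ∈ T, x * y = y * x := by
    intro T hT x hx y hy
    obtain ⟨k, hk⟩ := hT ⟨x, hx⟩
    have : x = 1 := eq_one_of_odd_of_pow_two
      (hHodd.of_dvd_nat (orderOf_dvd_natCard x)) (congrArg Subtype.val hk)
    rw [this, one_mul, mul_one]
  obtain ⟨hn, htop⟩ := zjA_factor hp2 hab hRH.toSylow
  set O := Cfsg.pPrimeCore p H with hO
  haveI : O.Normal := Subgroup.sSup_normal _ fun _ h => h.1
  set Z := Cfsg.centerThompsonAOf (hRH.toSylow : Subgroup H) with hZ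
  have hmapZ : Z.map H.subtype = Cfsg.centerThompsonAOf R := by
    have h1 := CfsgLib.Fusion.map_zjFun (H.subtype.comp (hRH.toSylow : Subgroup H).subtype)
      (H.subtype_injective.comp (hRH.toSylow : Subgroup H).subtype_injective)
    rw [← Subgroup.map_map, CfsgLib.Fusion.map_zjFun (hRH.toSylow : Subgroup H).subtype
      (hRH.toSylow : Subgroup H).subtype_injective, Subgroup.range_subtype, MonoidHom.range_comp,
      Subgroup.range_subtype, hRH.map_toSylow] at h1
    exact h1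
  have hu' : (⟨u, mem_sup_left hu⟩ : H) ∈ O ⊔ normalizer (Z : Set H) := htop ▸ mem_top _
  obtain ⟨w, hw, n, hn', hwn⟩ := mem_sup_of_normal_left.1 hu'
  refine ⟨w, coCore_sup_le hR ⟨w, hw, rfl⟩, n, ?_, (sup_le pairU_le hR.1) n.2,
    (congrArg Subtype.val hwn).symm⟩
  rw [← hmapZ]
  exact le_normalizer_map H.subtype (mem_map_of_mem _ hn')

end Sup

/-- Odd subgroups of a point stabilizer normalized by its conjugates of `z` are centralized by them, if
this holds for those normal in the point stabilizer. -/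
theorem commute_of_normalized (h : Crit M z)
    (hJO : ∀ (a : G ⧸ M) (A : Subgroup G), A ≤ MulAction.stabilizer G a → Odd (Nat.card A) →
      MulAction.stabilizer G a ≤ normalizer (A : Set G) →
      ∀ d : G, IsConj z d → d • a = a → ∀ x ∈ A, Commute d x)
    {a : G ⧸ M} {A : Subgroup G} (hA : A ≤ MulAction.stabilizer G a) (hodd : Odd (Nat.card A))
    (hAn : ∀ d, IsConj z d → d • a = a → d ∈ normalizer (A : Set G)) {d : G} (hd : IsConj z d)
    (hda : d • a = a) {x : G} (hx : x ∈ A) : Commute d x := by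
  haveI : Fact (Nat.Prime 2) := ⟨Nat.prime_two⟩
  set S := {g : G | IsConj z g ∧ g • a = a} with hS
  set J := closure S with hJ
  have hJA : J ≤ normalizer (A : Set G) := (closure_le _).2 fun g hg => hAn g hg.1 hg.2
  have hJa : J ≤ MulAction.stabilizer G a := (closure_le _).2 fun g hg => hg.2
  have hnJ : MulAction.stabilizer G a ≤ normalizer (J : Set G) := by
    refine fun g hg => mem_normalizer_iff_map_conj_eq.2 ?_
    rw [hJ, MonoidHom.map_closure]
    congr 1
    ext y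
    constructor
    · rintro ⟨c, ⟨hc, hca⟩, rfl⟩
      refine ⟨hc.trans (isConj_iff.2 ⟨g, rfl⟩), ?_⟩
      show (g * c * g⁻¹) • a = a
      rw [mul_smul, mul_smul, inv_smul_eq_iff.2 (MulAction.mem_stabilizer_iff.1 hg).symm, hca]
      exact MulAction.mem_stabilizer_iff.1 hg
    · rintro ⟨hy, hya⟩
      refine ⟨g⁻¹ * y * g, ⟨hy.trans (isConj_iff.2 ⟨g⁻¹, by group⟩), ?_⟩, by
        show g * (g⁻¹ * y * g) * g⁻¹ = y; group⟩
      rw [mul_smul, mul_smul, MulAction.mem_stabilizer_iff.1 hg, hya, inv_smul_eq_iff]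
      exact (MulAction.mem_stabilizer_iff.1 hg).symm
  have hO : coCore J 2 ≤ MulAction.stabilizer G a := coCore_le.trans hJa
  have hOn : MulAction.stabilizer G a ≤ normalizer (coCore J 2 : Set G) := by
    haveI := CfsgLib.Coprime.pPrimeCore_characteristic (G := J) 2
    exact hnJ.trans (CfsgLib.PGroup.normalizer_le_normalizer_map_char J _)
  have hOodd : Odd (Nat.card (coCore J 2)) := by
    rw [← Nat.not_even_iff_odd, even_iff_two_dvd]; exact not_dvd_coCore
  have hAJ : A ⊓ J ≤ coCore J 2 := le_coCore inf_le_right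
    (fun g hg => mem_normalizer_iff.2 fun y =>
      and_congr (mem_normalizer_iff.1 (hJA hg) y) (mem_normalizer_iff.1 (le_normalizer hg) y))
    (hodd.of_dvd_nat (card_dvd_of_le inf_le_left)).not_two_dvd_nat
  have hdo := h.orderOf_conj hd
  set c := x⁻¹ * (d * x * d⁻¹) with hc
  have hcA : c ∈ A := mul_mem (inv_mem hx) ((mem_normalizer_iff.1 (hAn d hd hda) x).1 hx)
  have hdJ : d ∈ J := subset_closure ⟨hd, hda⟩
  have hcJ : c ∈ J := by
    rw [hc, show x⁻¹ * (d * x * d⁻¹) = x⁻¹ * d * x * d⁻¹ by group]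
    refine mul_mem ?_ (inv_mem hdJ)
    have := (mem_normalizer_iff''.1 (hnJ (hA hx)) d).1 hdJ
    exact this
  have hcom : Commute d c := hJO a _ hO hOodd hOn d hd hda c (hAJ ⟨hcA, hcJ⟩)
  have hinv : d * c * d⁻¹ = c⁻¹ := by
    rw [hc, invol_inv hdo, mul_inv_rev, inv_inv, mul_inv_rev, mul_inv_rev, invol_inv hdo,
      show d * (x⁻¹ * (d * x * d)) * d = d * x⁻¹ * d * x * (d * d) by group, invol_mul_self hdo, mul_one]
    group
  rw [hcom.eq, mul_inv_cancel_right] at hinv
  have h1 : c = 1 := eq_one_of_odd_of_pow_two (k := 1)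
    (hodd.of_dvd_nat (Subgroup.orderOf_dvd_natCard A hcA))
    (by rw [pow_one, pow_two, mul_eq_one_iff_eq_inv]; exact hinv)
  exact mul_inv_eq_iff_eq_mul.1 (inv_mul_eq_one.1 (hc ▸ h1)).symm

end CfsgLib.SECrit.TWeak

namespace CfsgLib.SECrit.Step

open Subgroup CfsgLib.Invol

universe u

variable {G : Type u} [Group G] [Finite G] {M : Subgroup G} {z : G} (h : Setup M z) {p : ℕ}
  {L : Subgroup G} {i j : G ⧸ M} (D : Step M z p L i j)
include h D

/-- The stabilizer of `i` in `L` is transitive on the rest of the orbit. -/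
theorem exists_fix_smul {k : G ⧸ M} (hk : ∃ g ∈ L, g • i = k) (hki : k ≠ i) :
    ∃ l ∈ L, l • i = i ∧ l • j = k := by
  obtain ⟨gk, hgk, hgki⟩ := hk
  obtain ⟨gj, hgj, hgji⟩ := D.orbit
  obtain ⟨d, e, hd, he, hdL, heL, hdi, hde, hne⟩ := D.pair
  have hq := h.sub_quot D.ne_top hd he hdL heL hdi hde hne (Step.move h D)
  set H := (MulAction.stabilizer G i).subgroupOf L with hH
  set π := QuotientGroup.mk' H.normalCore with hπ
  set M' := H.map π with hM'
  have hmem : ∀ g : L, π g ∈ M' ↔ (g : G) • i = i := fun g => by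
    refine ⟨fun hg => ?_, fun hg => mem_map_of_mem π hg⟩
    obtain ⟨g', hg', e1⟩ := hg
    have h1 : g'⁻¹ * g ∈ H := normalCore_le H (QuotientGroup.eq.1 e1)
    have h2 : g' * (g'⁻¹ * g) ∈ H := mul_mem hg' h1
    rwa [mul_inv_cancel_left] at h2
  obtain ⟨Q, hQM, -, -, -, hreg⟩ := hq.exists_regular
  obtain ⟨xj, hxj, mj, hmj, ej⟩ := hq.exists_mul_eq (g := π ⟨gj, hgj⟩)
  obtain ⟨xk, hxk, mk, hmk, ek⟩ := hq.exists_mul_eq (g := π ⟨gk, hgk⟩)
  have hxjM : xj ∉ M' := fun hh => D.ne (by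
    rw [← hgji]; exact (hmem ⟨gj, hgj⟩).1 (ej ▸ mul_mem hh hmj))
  have hxkM : xk ∉ M' := fun hh => hki (by
    rw [← hgki]; exact (hmem ⟨gk, hgk⟩).1 (ek ▸ mul_mem hh hmk))
  obtain ⟨y, ⟨hy, hyM⟩, -⟩ := hreg xj xk hxj hxk hxjM hxkM
  obtain ⟨l, rfl⟩ := QuotientGroup.mk'_surjective _ y
  have hli : (l : G) • i = i := (hmem l).1 (hQM hy)
  refine ⟨l, l.2, hli, ?_⟩
  have h1 : π (⟨gk, hgk⟩⁻¹ * (l * ⟨gj, hgj⟩)) ∈ M' := by
    rw [map_mul, map_inv, map_mul, ej, ek, mul_inv_rev, mul_assoc, ← mul_assoc (π l), ← mul_assoc xk⁻¹]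
    exact mul_mem (inv_mem hmk) (mul_mem hyM hmj)
  have h2 := (hmem _).1 h1
  have h3 : (gk⁻¹ * ((l : G) * gj)) • i = i := h2
  rwa [mul_smul, mul_smul, hgji, inv_smul_eq_iff, hgki] at h3

end CfsgLib.SECrit.Step
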