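import Cfsg.Agent.Lib.Invol.SECriterion.TWeak.Maximal
import Cfsg.Agent.Lib.Invol.SECriterion.TWeak.ExitTools

/-!
# The weak T theorem of the criterion: the contradiction

If the members at each point centralize the odd normal subgroups of its stabilizer, no `Step` exists.  For the
maximal data a member `d` at `i` normalizes a self-centralizing `Q ≤ R` and inverts a `p`-element centralized by
a commuting member, so `O_{p'}(O(G_{j,dj}))` and `O_{p'}(O(G_{ij}))` are equal and centralized by the members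
at `i`; these then lie in `L` and centralize its odd kernel, against the inverted element.
-/

set_option autoImplicit false
set_option linter.style.haveILetI false

namespace CfsgLib.SECrit

open CfsgLib.Invol Subgroup
open CfsgLib.Coprime (IsSylowIn conjBy)

universe u

/-- A self-centralizing normal subgroup of a Sylow subgroup whose normalizer supplements the `p'`-core. -/
theorem exists_selfCentralizing {G : Type u} [Group G] [Finite G] [Group.IsSolvable G] {p : ℕ} [Fact p.Prime]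
    (S : Sylow p G) : ∃ Q : Subgroup G, Q ≤ (S : Subgroup G) ∧ (S : Subgroup G) ≤ normalizer (Q : Set G) ∧
      (S : Subgroup G) ⊓ centralizer (Q : Set G) ≤ Q ∧
      Cfsg.pPrimeCore p G ⊔ normalizer (Q : Set G) = ⊤ := by
  set K := Cfsg.pPrimeCore p G with hK
  set π := QuotientGroup.mk' K with hπ
  have hπs := QuotientGroup.mk'_surjective K
  set C := Cfsg.pCore p (G ⧸ K) with hC
  haveI : C.Normal := Subgroup.sSup_normal _ fun _ h => h.1
  set Q := (S : Subgroup G) ⊓ C.comap π with hQ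
  have hlift : ∀ c ∈ C, ∃ q ∈ Q, π q = c := by
    intro c hc
    have h1 := CfsgLib.Coprime.pCore_le_sylow (S.mapSurjective hπs) hc
    rw [Sylow.coe_mapSurjective] at h1
    obtain ⟨q, hq, rfl⟩ := h1
    exact ⟨q, ⟨hq, hc⟩, rfl⟩
  have hmap : Q.map π = C :=
    le_antisymm (map_le_iff_le_comap.2 inf_le_right) fun c hc => hlift c hc
  refine ⟨Q, inf_le_left, fun s hs => ?_, ?_, ?_⟩
  · exact mem_normalizer_iff.2 fun x => and_congr (mem_normalizer_iff.1 (le_normalizer hs) x)
      (mem_normalizer_iff.1 (show s ∈ normalizer ((C.comap π : Subgroup G) : Set G) by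
        rw [normalizer_eq_top]; exact mem_top s) x)
  · rintro x ⟨hx, hxc⟩
    refine ⟨hx, CfsgLib.Coprime.centralizer_pCore_le
      (CfsgLib.Coprime.pPrimeCore_quotient_eq_bot (Fact.out : p.Prime)) (mem_centralizer_iff.2 fun c hc => ?_)⟩
    obtain ⟨q, hq, rfl⟩ := hlift c hc
    rw [← map_mul, ← map_mul, mem_centralizer_iff.1 hxc q hq]
  · exact (CfsgLib.CFun.sup_normalizer_of_map_normal (S.2.to_le inf_le_left) (by rw [hmap]; infer_instance)).2

variable {G : Type u} [Group G] [Finite G] {M : Subgroup G} {z : G}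

/-- STEP 1: there is no proper subgroup with two commuting members at a moved point and an inverted
`p`-element fixing this point. -/
theorem not_step (h : Setup M z)
    (hJO : ∀ (a : G ⧸ M) (A : Subgroup G), A ≤ MulAction.stabilizer G a → Odd (Nat.card A) →
      MulAction.stabilizer G a ≤ normalizer (A : Set G) →
      ∀ d : G, IsConj z d → d • a = a → ∀ x ∈ A, Commute d x)
    {p : ℕ} (hp : p.Prime) (hp2 : p ≠ 2) {L₀ : Subgroup G} {i₀ j₀ : G ⧸ M} : ¬ Step M z p L₀ i₀ j₀ := by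
  intro D₀
  haveI : Fact p.Prime := ⟨hp⟩
  obtain ⟨L, i, j, R, D, hR, hRL, hL⟩ := exists_maximal h hp2 D₀
  have hS : IsSylowIn p R (L ⊓ (MulAction.stabilizer G i ⊓ MulAction.stabilizer G j)) := by
    refine ⟨le_inf hRL hR.1, le_antisymm (CfsgLib.Bender.isPGroup_card_le hR.isPGroup (le_inf hRL hR.1)) ?_⟩
    rw [hR.2]
    exact Nat.pow_le_pow_right hp.pos ((Nat.factorization_le_iff_dvd Nat.card_pos.ne'
      Nat.card_pos.ne').2 (card_dvd_of_le inf_le_right) p)
  have hRi : ∀ r ∈ R, r • i = i := fun r hr => (hR.1 hr).1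
  have hRp := hR.isPGroup
  have hSX := Step.isSylowIn_xGroup h D hp2 hRL hRi hRp hS
  haveI := Step.solvable h D hp2 hRL hRi hRp
  obtain ⟨Q', hQR', hRQ', hC', hsup⟩ := exists_selfCentralizing hSX.toSylow
  obtain ⟨d, e, -, -, hdN, heN, -, -, hd, he, hde, hne, -, -, -, -, -⟩ :=
    Step.exists_normalizer h D hp2 hRL hRi hRp hsup
  set Q := Q'.map (xGroup M z L i R).subtype with hQ
  have hQR : Q ≤ R := (map_mono hQR').trans_eq hSX.map_toSylow
  have hRQ : R ≤ normalizer (Q : Set G) :=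
    (hSX.map_toSylow.ge.trans (map_mono hRQ')).trans (le_normalizer_map _)
  have hCQ : R ⊓ centralizer (Q : Set G) ≤ Q := by
    rintro x ⟨hx, hxc⟩
    obtain ⟨x', hx', rfl⟩ := hSX.map_toSylow.ge hx
    exact mem_map_of_mem _ (hC' ⟨hx', mem_centralizer_iff.2 fun q hq =>
      Subtype.ext (mem_centralizer_iff.1 hxc q (mem_map_of_mem _ hq))⟩)
  have hdQ : (d : G) ∈ normalizer (Q : Set G) := le_normalizer_map _ (mem_map_of_mem _ hdN)
  obtain ⟨g₀, hg₀, hgj⟩ := D.orbit
  set B := oddKer M L i with hB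
  have hBfix : ∀ b ∈ B, b • i = i := fun b hb => by simpa using oddKer_fix L i hb (one_mem L)
  -- an inverted element centralized by a commuting member
  obtain ⟨u, huL, hui, hu1, hup, hinv⟩ := Step.inverted_of_member h D hd.1 hd.2.1 hd.2.2
  have huB := Step.mem_oddKer_of_inverted h D hd.1 hd.2.1 hd.2.2 huL hui (h.odd_of_pow hp hp2 hup) hinv
  obtain ⟨w, hwB, hw1, ⟨k, hk⟩, hwinv, hcent⟩ := TWeak.exists_inverted_centralized (p := p)
    (oddKer_odd L i) (h.crit.orderOf_conj hd.1) (h.crit.orderOf_conj he.1) hde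
    (oddKer_normalizer L i hd.2.1) (oddKer_normalizer L i he.2.1) huB hu1 hup hinv
  obtain ⟨c, hc, hci, hcw⟩ : ∃ c, IsConj z c ∧ c • i = i ∧ Commute c w := hcent.elim
    (fun h1 => ⟨e, he.1, he.2.2, h1⟩)
    fun h1 => ⟨(d : G) * e, h.isConj_mul hd.1 he.1 hde hne, by rw [mul_smul, he.2.2, hd.2.2], h1⟩
  obtain ⟨k, rfl⟩ : ∃ k', k = k' + 1 := ⟨k - 1, (Nat.succ_pred_eq_of_ne_zero fun h0 => hw1
    (orderOf_eq_one_iff.1 (by rw [hk, h0, pow_zero]))).symm⟩
  set g := w ^ p ^ k with hg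
  have hgo : orderOf g = p := by
    rw [hg, orderOf_pow_of_dvd (pow_ne_zero k hp.ne_zero) (hk ▸ pow_dvd_pow p (Nat.le_succ k)), hk,
      pow_succ', Nat.mul_div_cancel _ (pow_pos hp.pos k)]
  have hgB : g ∈ B := pow_mem hwB _
  have hgj1 : g • j = j := hgj ▸ oddKer_fix L i hgB hg₀
  have hgj2 : g • (d : G) • j = (d : G) • j := by
    rw [← hgj, smul_smul (d : G)]; exact oddKer_fix L i hgB (mul_mem hd.2.1 hg₀)
  have hdinv : (d : G) * g * (d : G)⁻¹ = g⁻¹ := by rw [hg, ← conj_pow, hwinv, inv_pow]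
  -- the two cores are equal
  set W := TWeak.pairW p i j with hW
  have h1 : TWeak.pairW p j ((d : G) • j) ≤ TWeak.pairU i j := TWeak.pairW_le_pairU_other h.crit hp2
    D.ne.symm hc hd.1 hci hd.2.2 hgo (hcw.pow_right _) hdinv hgj1 hgj2
  have h2 : TWeak.pairW p j ((d : G) • j) ≤ W := by
    refine TWeak.le_pairW_of_selfCentralizing hp2 hR hQR hRQ hCQ h1
      (Nat.Coprime.symm (hp.coprime_iff_not_dvd.2 CfsgLib.CFun.not_dvd_coCore)) fun q hq => ?_
    refine TWeak.pairFix_le_normalizer_pairW p ⟨(hR.1 (hQR hq)).2, ?_⟩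
    have h3 : ((d : G)⁻¹ * q * d) • j = j := (hR.1 (hQR ((mem_normalizer_iff''.1 hdQ q).1 hq))).2
    rw [mul_smul, mul_smul, inv_smul_eq_iff] at h3
    exact h3
  have hdj : (d : G) • j ≠ j := fun h3 => D.ne (h.crit.fix_unique hd.1 h3 hd.2.2)
  obtain ⟨l, -, hlj, hli⟩ := Step.exists_fix_smul h (Step.symm h D) ⟨d, hd.2.1, rfl⟩ hdj
  have hl : conjBy l W = TWeak.pairW p j ((d : G) • j) := by
    rw [hW, TWeak.conjBy_pairW, hli, hlj, TWeak.pairW_comm]
  have hWeq : TWeak.pairW p j ((d : G) • j) = W := eq_of_le_of_card_ge h2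
    (by rw [← hl, CfsgLib.Coprime.card_conjBy])
  have hdW : (d : G) ∈ normalizer (W : Set G) := by
    rw [← CfsgLib.Coprime.conjBy_eq_self_iff, ← hWeq, TWeak.conjBy_pairW, smul_smul,
      invol_mul_self (h.crit.orderOf_conj hd.1), one_smul, TWeak.pairW_comm]
  -- the members at `i` centralize the core and lie in `L`
  have hWn : ∀ f, IsConj z f → f • i = i → f ∈ normalizer (W : Set G) := by
    intro f hf hfi
    obtain ⟨r, hr, rfl⟩ := TWeak.exists_pairU_conj h.crit D.ne.symm hd.1 hf hd.2.2 hfi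
    have hrn := TWeak.pairFix_le_normalizer_pairW p (TWeak.pairU_le hr)
    exact mul_mem (mul_mem hrn hdW) (inv_mem hrn)
  have hWc : ∀ f, IsConj z f → f • i = i → ∀ x ∈ W, Commute f x := fun f hf hfi x hx =>
    TWeak.commute_of_normalized h.crit hJO (fun _ hy => (TWeak.pairU_le (TWeak.pairW_le_pairU hy)).1)
      (TWeak.odd_card_pairW p i j) hWn hf hfi hx
  have hmem : ∀ f, IsConj z f → f • i = i → f ∈ L := by
    intro f hf hfi
    obtain ⟨r, hr, rfl⟩ := TWeak.exists_pairU_conj h.crit D.ne.symm hd.1 hf hd.2.2 hfi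
    obtain ⟨x, hx, n, hn, hnf, rfl⟩ := TWeak.exists_mul_normalizer hp2 hR hr
    have hnd : (n * d * n⁻¹) • i = i := by
      rw [mul_smul, mul_smul, inv_smul_eq_iff.2 hnf.1.symm, hd.2.2, hnf.1]
    have hcx := hWc _ (hd.1.trans (isConj_iff.2 ⟨n, rfl⟩)) hnd x hx
    rw [show x * n * d * (x * n)⁻¹ = x * (n * d * n⁻¹) * x⁻¹ by group, ← hcx.eq, mul_inv_cancel_right]
    have hnL : n ∈ L := hL ▸ hn
    exact mul_mem (mul_mem hnL hd.2.1) (inv_mem hnL)
  -- so they centralize the kernel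
  have hcomm : Commute (d : G) u := TWeak.commute_of_normalized h.crit hJO
    (fun b hb => MulAction.mem_stabilizer_iff.2 (hBfix b hb)) (oddKer_odd L i)
    (fun f hf hfi => oddKer_normalizer L i (hmem f hf hfi)) hd.1 hd.2.2 huB
  rw [hcomm.eq, mul_inv_cancel_right] at hinv
  refine hu1 (eq_one_of_odd_of_pow_two (k := 1) (h.odd_of_pow hp hp2 hup) ?_)
  rw [pow_one, pow_two, mul_eq_one_iff_eq_inv]
  exact hinv

end CfsgLib.SECrit
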