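import Cfsg.Agent.Lib.Invol.SECriterion.TWeak.XGroup
import Cfsg.Agent.Lib.Invol.SECriterion.TWeak.Pair
import Cfsg.Agent.Lib.Fusion.System.QdConstrained
import Cfsg.Agent.Lib.PGroup.ZJFailure
import Cfsg.Agent.Lib.Bender.Good

/-!
# The maximisation for the weak T theorem of the criterion

Among the local data, one with the largest Sylow subgroup of the stabilizer of the two points in `L` can be
replaced by the normalizer of the `Z(J)` of this subgroup; then it is a Sylow subgroup of the stabilizer of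
the two points.
-/

set_option autoImplicit false
set_option linter.style.haveILetI false

namespace CfsgLib.SECrit

open CfsgLib.Invol Subgroup
open CfsgLib.Coprime (IsSylowIn)

universe u

variable {G : Type u} [Group G] [Finite G] {M : Subgroup G} {z : G}

theorem normalizer_le_normalizer_centerThompsonA (S : Subgroup G) :
    normalizer (S : Set G) ≤ normalizer (Cfsg.centerThompsonAOf S : Set G) := fun g hg => by
  refine mem_normalizer_iff_map_conj_eq.2 ?_
  have h1 := CfsgLib.Fusion.map_centerThompsonAOf (MulAut.conj g) S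
  refine h1.trans (congrArg Cfsg.centerThompsonAOf ?_)
  exact mem_normalizer_iff_map_conj_eq.1 hg

namespace Step

variable (h : Setup M z) {p : ℕ} [hp : Fact p.Prime] (hp2 : p ≠ 2) {L : Subgroup G} {i j : G ⧸ M}
  (D : Step M z p L i j) {S : Subgroup G}
  (hS : IsSylowIn p S (L ⊓ TWeak.pairFix i j))
include h hp2 D hS

theorem sylow_ne_bot : S ≠ ⊥ := by
  intro h1
  obtain ⟨v, u, hv, hvL, hvi, huL, hui, hu1, hup, hinv⟩ := D.inverted
  have huB := mem_oddKer_of_inverted h D hv hvL hvi huL hui (h.odd_of_pow hp.out hp2 hup) hinv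
  obtain ⟨g, hg, hgj⟩ := D.orbit
  have hmem : u ∈ L ⊓ TWeak.pairFix i j :=
    ⟨huL, TWeak.mem_pairFix.2 ⟨hui, hgj ▸ oddKer_fix L i huB hg⟩⟩
  obtain ⟨k, hk⟩ := hup
  have hle := CfsgLib.Bender.isPGroup_card_le (r := p) (Q := zpowers u)
    (IsPGroup.iff_card.2 ⟨k, by rw [Nat.card_zpowers, hk]⟩) (zpowers_le.2 hmem)
  replace hle : Nat.card (zpowers u) ≤ Nat.card S := hle.trans_eq hS.2.symm
  rw [h1, card_bot, Nat.card_zpowers] at hle
  exact hu1 (orderOf_eq_one_iff.1 (le_antisymm hle (orderOf_pos u)))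

/-- The normalizer of `Z(J)` of the Sylow subgroup has two commuting members and an inverted `p`-element
at the first point. -/
theorem exists_normalizer_zj : ∃ d e v u : G, d ∈ memberSet z L i ∧ e ∈ memberSet z L i ∧ Commute d e ∧
    d ≠ e ∧ v ∈ memberSet z L i ∧ u ∈ oddKer M L i ∧ u ≠ 1 ∧ (∃ k : ℕ, orderOf u = p ^ k) ∧
    v * u * v⁻¹ = u⁻¹ ∧ ∀ x ∈ ({d, e, v, u} : Set G),
      x ∈ normalizer (Cfsg.centerThompsonAOf S : Set G) := by
  have hSL : S ≤ L := hS.1.trans inf_le_left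
  have hSi : ∀ s ∈ S, s • i = i := fun s hs => (hS.1 hs).2.1
  have hSX := isSylowIn_xGroup h D hp2 hSL hSi hS.isPGroup hS
  haveI := solvable h D hp2 hSL hSi hS.isPGroup
  have hZ := (TWeak.zjA_factor hp2 (twoAbelian h D hp2 hSL hSi hS.isPGroup) hSX.toSylow).2
  obtain ⟨d, e, v, u, hd, he, hv, hu, hdm, hem, hde, hne, hvm, huB, hu1, hup, hinv⟩ :=
    exists_normalizer h D hp2 hSL hSi hS.isPGroup hZ
  refine ⟨d, e, v, u, hdm, hem, hde, hne, hvm, huB, hu1, hup, hinv, ?_⟩
  have key : ∀ x : ↥(xGroup M z L i S),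
      x ∈ normalizer (Cfsg.centerThompsonAOf (hSX.toSylow : Subgroup ↥(xGroup M z L i S)) : Set _) →
      (x : G) ∈ normalizer (Cfsg.centerThompsonAOf S : Set G) := by
    intro x hx
    have h1 := le_normalizer_map (xGroup M z L i S).subtype (mem_map_of_mem _ hx)
    rwa [CfsgLib.PGroup.ZJFailure.map_centerThompsonAOf_injective _ (subtype_injective _),
      hSX.map_toSylow] at h1
  rintro x (rfl | rfl | rfl | rfl)
  exacts [key d hd, key e he, key v hv, key u hu]

theorem centerThompsonA_ne_bot : Cfsg.centerThompsonAOf S ≠ ⊥ := by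
  rw [← CfsgLib.Fusion.wSub_zjFun S]
  intro h1
  haveI : Nontrivial S := (nontrivial_iff_ne_bot S).2 (sylow_ne_bot h hp2 D hS)
  exact (CfsgLib.Fusion.qdFunctor_zjFun hp2).nontrivial S hS.isPGroup inferInstance
    ((map_eq_bot_iff_of_injective _ S.subtype_injective).1 h1)

theorem normalizer_zj_ne_top : normalizer (Cfsg.centerThompsonAOf S : Set G) ≠ ⊤ := by
  intro h1
  haveI : (Cfsg.centerThompsonAOf S).Normal := normalizer_eq_top_iff.1 h1
  have hle : Cfsg.centerThompsonAOf S ≤ MulAction.stabilizer G i :=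
    (show Cfsg.centerThompsonAOf S ≤ S by
      rw [← CfsgLib.Fusion.wSub_zjFun S]; exact map_subtype_le _).trans
      (hS.1.trans (inf_le_right.trans inf_le_left))
  obtain ⟨g, rfl⟩ := QuotientGroup.mk_surjective i
  refine centerThompsonA_ne_bot h hp2 D hS ((eq_bot_iff).2 (le_trans ?_ h.core.le))
  refine normal_le_normalCore.2 fun x hx => ?_
  have h2 := hle ((inferInstance : (Cfsg.centerThompsonAOf S).Normal).conj_mem x hx g)
  rw [MulAction.mem_stabilizer_iff] at h2
  have h3 : g⁻¹ * (g * x * g⁻¹ * g) ∈ M := QuotientGroup.eq.1 h2.symm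
  simpa [mul_assoc] using h3

end Step

variable (h : Setup M z) {p : ℕ} [hp : Fact p.Prime] (hp2 : p ≠ 2)
include h hp2

/-- Data with a Sylow subgroup of the two point stabilizer whose `Z(J)` has normalizer `L`. -/
theorem exists_maximal {L₀ : Subgroup G} {i₀ j₀ : G ⧸ M} (D₀ : Step M z p L₀ i₀ j₀) :
    ∃ (L : Subgroup G) (i j : G ⧸ M) (R : Subgroup G), Step M z p L i j ∧
      IsSylowIn p R (TWeak.pairFix i j) ∧ R ≤ L ∧ L = normalizer (Cfsg.centerThompsonAOf R : Set G) := by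
  let T := {t : Subgroup G × (G ⧸ M) × (G ⧸ M) // Step M z p t.1 t.2.1 t.2.2}
  haveI : Nonempty T := ⟨⟨(L₀, i₀, j₀), D₀⟩⟩
  obtain ⟨⟨⟨L, i, j⟩, D⟩, hmax⟩ := Finite.exists_max (fun t : T =>
    p ^ (Nat.card ↥(t.1.1 ⊓ TWeak.pairFix t.1.2.1 t.1.2.2)).factorization p)
  have hS := CfsgLib.Coprime.isSylowIn_map (default : Sylow p ↥(L ⊓ TWeak.pairFix i j))
  set S := ((default : Sylow p ↥(L ⊓ TWeak.pairFix i j)) : Subgroup _).map
    (L ⊓ TWeak.pairFix i j).subtype
  have hS' : IsSylowIn p S (L ⊓ TWeak.pairFix j i) := by rwa [TWeak.pairFix_comm]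
  set N := normalizer (Cfsg.centerThompsonAOf S : Set G) with hN
  obtain ⟨d, e, v, u, hd, he, hde, hne, hv, hu, hu1, hup, hinv, hN1⟩ :=
    Step.exists_normalizer_zj h hp2 D hS
  obtain ⟨d', _, _, _, hd', _, _, _, _, _, _, _, _, hN2⟩ :=
    Step.exists_normalizer_zj h hp2 (Step.symm h D) hS'
  have hdN : d ∈ N := hN1 d (by simp)
  have hd'N : d' ∈ N := hN2 d' (by simp)
  obtain ⟨g, hg, hgd⟩ : ∃ g ∈ N, g * d * g⁻¹ = d' := by
    have hc : IsConj (⟨d, hdN⟩ : N) ⟨d', hd'N⟩ := Invol.isConj_of_odd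
      (by rw [orderOf_mk]; exact h.crit.orderOf_conj hd.1)
      (by rw [orderOf_mk]; exact h.crit.orderOf_conj hd'.1)
      (by rw [← orderOf_coe]; exact h.crit.odd_mul hd.1 hd'.1 hd.2.2 hd'.2.2 D.ne.symm)
    obtain ⟨g, hg⟩ := isConj_iff.1 hc
    exact ⟨g, g.2, congrArg Subtype.val hg⟩
  have hgij : g • i = j := h.crit.smul_eq_of_conj hd'.1 hgd hd.2.2 hd'.2.2
  obtain ⟨l, hl, hlj⟩ := D.orbit
  have DN : Step M z p N i j := ⟨Step.normalizer_zj_ne_top h hp2 D hS,
    ⟨d, e, hd.1, he.1, hdN, hN1 e (by simp), hd.2.2, hde, hne⟩, ⟨g, hg, hgij⟩, D.ne,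
    ⟨v, u, hv.1, hN1 v (by simp), hv.2.2, hN1 u (by simp),
      by simpa using oddKer_fix L i hu (one_mem L), hu1, hup, hinv⟩⟩
  have hcard := hmax ⟨(N, i, j), DN⟩
  have hnS : normalizer (S : Set G) ≤ N := normalizer_le_normalizer_centerThompsonA S
  refine ⟨N, i, j, S, DN, ?_, le_normalizer.trans hnS, rfl⟩
  have hSK : S ≤ TWeak.pairFix i j := hS.1.trans inf_le_right
  obtain ⟨R, hR, hSR⟩ := CfsgLib.Bender.exists_sylowIn_ge hS.isPGroup hSK
  suffices R = S from this ▸ hR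
  by_contra hne'
  set P := R ⊓ normalizer (S : Set G) with hP
  have hPp : IsPGroup p P := hR.isPGroup.to_le inf_le_left
  have hle := CfsgLib.Bender.isPGroup_card_le hPp
    (le_inf (inf_le_right.trans hnS) (inf_le_left.trans hR.1) : P ≤ N ⊓ TWeak.pairFix i j)
  have hSP : Nat.card S < Nat.card P := by
    haveI := hR.isPGroup.isNilpotent
    have hlt : S.subgroupOf R < ⊤ := lt_top_iff_ne_top.2 fun h1 =>
      hne' (le_antisymm (subgroupOf_eq_top.1 h1) hSR)
    obtain ⟨y, hyn, hyS⟩ := SetLike.exists_of_lt (Group.normalizerCondition_of_isNilpotent _ hlt)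
    rw [mem_normalizer_iff] at hyn
    have hyS' : (y : G) ∈ normalizer (S : Set G) := mem_normalizer_iff.2 fun x => by
      refine ⟨fun hx => ?_, fun hx => ?_⟩
      · exact (hyn ⟨x, hSR hx⟩).1 hx
      · have hxR : x ∈ R := by
          have h2 := mul_mem (mul_mem (inv_mem y.2) (hSR hx)) y.2
          simpa [mul_assoc] using h2
        exact (hyn ⟨x, hxR⟩).2 hx
    have hlt' : S < P := lt_of_le_of_ne (le_inf hSR le_normalizer) fun h1 =>
      hyS (show (y : G) ∈ S from h1 ▸ (⟨y.2, hyS'⟩ : (y : G) ∈ P))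
    exact lt_of_le_of_ne (card_le_of_le hlt'.le) fun h1 => hlt'.ne (eq_of_le_of_card_ge hlt'.le h1.ge)
  exact absurd (hle.trans hcard) (not_le.2 (by rw [← hS.2]; exact hSP))

end CfsgLib.SECrit
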