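import Cfsg.Agent.Lib.Invol.SECriterion.TWeak.Data
import Cfsg.Agent.Lib.Invol.SECriterion.TWeak.Tools
import Cfsg.Agent.Lib.Invol.Signalizer
import Cfsg.Agent.Lib.Bender.Count
import Cfsg.Agent.S0205

/-!
# The solvable group generated by the members at a point, the odd core of the kernel and a Sylow subgroup

In `X = <members of L at i> ⊔ oddKer ⊔ S` every involution is a member at `i`, the two-subgroups are abelian, the
`p'`-core is odd and lies in `oddKer`; a subgroup whose normalizer supplements this core is normalized by two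
commuting members and by a `p`-element inverted by one of them.
-/

set_option autoImplicit false
set_option linter.style.haveILetI false

namespace CfsgLib.SECrit

open CfsgLib.Invol Subgroup

universe u

variable {G : Type u} [Group G] {M : Subgroup G} {z : G}

/-- The members of `L` at `i`. -/
def memberSet (z : G) (L : Subgroup G) (i : G ⧸ M) : Set G := {d | IsConj z d ∧ d ∈ L ∧ d • i = i}

/-- The members at `i` with the odd core of the kernel. -/
def memCore (M : Subgroup G) (z : G) (L : Subgroup G) (i : G ⧸ M) : Subgroup G :=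
  closure (memberSet z L i) ⊔ oddKer M L i

/-- The group of the maximisation. -/
def xGroup (M : Subgroup G) (z : G) (L : Subgroup G) (i : G ⧸ M) (S : Subgroup G) : Subgroup G :=
  memCore M z L i ⊔ S

theorem memCore_le (L : Subgroup G) (i : G ⧸ M) : memCore M z L i ≤ L :=
  sup_le ((closure_le _).2 fun _ hd => hd.2.1) (oddKer_le L i)

theorem memCore_fix (L : Subgroup G) (i : G ⧸ M) {x : G} (hx : x ∈ memCore M z L i) : x • i = i := by
  have hle : memCore M z L i ≤ MulAction.stabilizer G i := sup_le ((closure_le _).2 fun d hd => hd.2.2)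
    (fun b hb => by simpa using oddKer_fix L i hb (one_mem L))
  exact hle hx

theorem stab_normalizes_memCore (L : Subgroup G) (i : G ⧸ M) {l : G} (hl : l ∈ L) (hli : l • i = i) :
    l ∈ normalizer (memCore M z L i : Set G) := by
  have key : ∀ g ∈ L, g • i = i → ∀ x ∈ memCore M z L i, g * x * g⁻¹ ∈ memCore M z L i := by
    intro g hg hgi
    have hle : memCore M z L i ≤ (memCore M z L i).comap (MulAut.conj g).toMonoidHom := by
      refine sup_le ((closure_le _).2 fun d hd => mem_sup_left (subset_closure ?_))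
        fun b hb => mem_sup_right ((mem_normalizer_iff.1 (oddKer_normalizer L i hg) b).1 hb)
      refine ⟨hd.1.trans (isConj_iff.2 ⟨g, rfl⟩), mul_mem (mul_mem hg hd.2.1) (inv_mem hg), ?_⟩
      show (g * d * g⁻¹) • i = i
      rw [mul_smul, mul_smul, inv_smul_eq_iff.2 hgi.symm, hd.2.2, hgi]
    exact fun x hx => hle hx
  refine mem_normalizer_iff.2 fun x => ⟨key l hl hli x, fun hx => ?_⟩
  have := key l⁻¹ (inv_mem hl) (inv_smul_eq_iff.2 hli.symm) _ hx
  simpa [mul_assoc] using this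

variable [Finite G]

namespace Step

variable (h : Setup M z) {p : ℕ} {L : Subgroup G} {i j : G ⧸ M} (D : Step M z p L i j)
include h D

/-- The product of two members is a member or trivial, modulo the odd core of the kernel. -/
theorem exists_member_mul {f g : G} (hf : f = 1 ∨ f ∈ memberSet z L i) (hg : g = 1 ∨ g ∈ memberSet z L i) :
    ∃ k, (k = 1 ∨ k ∈ memberSet z L i) ∧ k⁻¹ * (f * g) ∈ oddKer M L i := by
  rcases hf with rfl | hf
  · exact ⟨g, hg, by rw [one_mul, inv_mul_cancel]; exact one_mem _⟩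
  rcases hg with rfl | hg
  · exact ⟨f, Or.inr hf, by rw [mul_one, inv_mul_cancel]; exact one_mem _⟩
  have hsq := sq_mul_mem_oddKer h D hf.1 hg.1 hf.2.1 hg.2.1 hf.2.2 hg.2.2
  have hfo := h.crit.orderOf_conj hf.1
  have hgo := h.crit.orderOf_conj hg.1
  by_cases hev : Even (orderOf (f * g))
  · have hodd : Odd (orderOf ((f * g) ^ 2)) :=
      (oddKer_odd L i).of_dvd_nat (Subgroup.orderOf_dvd_natCard _ hsq)
    have h4 : orderOf ((f * g) ^ 2) = orderOf (f * g) / 2 := by
      rw [orderOf_pow' _ two_ne_zero, Nat.gcd_eq_right (even_iff_two_dvd.1 hev)]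
    set w := (f * g) ^ (orderOf (f * g) / 2) with hw
    have hwo : orderOf w = 2 := orderOf_pow_half hev
    have hwf : Commute w f := commute_pow_half (invol_conj_mul hfo hgo) hev
    have hfw : IsConj z (f * w) := hw ▸ h.crit.isConj_mul_half hf.1 hg.1
    have hne : f ≠ f * w := fun hh => invol_ne_one hwo (left_eq_mul.1 hh)
    have hwz : IsConj z w := by
      have := h.isConj_mul hf.1 hfw ((Commute.refl f).mul_right hwf.symm) hne
      rwa [← mul_assoc, invol_mul_self hfo, one_mul] at this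
    have hfg : f * g ∈ L ⊓ MulAction.stabilizer G i :=
      ⟨mul_mem hf.2.1 hg.2.1, show (f * g) • i = i by rw [mul_smul, hg.2.2, hf.2.2]⟩
    refine ⟨w, Or.inr ⟨hwz, (pow_mem hfg _).1, (pow_mem hfg _).2⟩, ?_⟩
    obtain ⟨r, hr⟩ := hodd
    have e1 : w⁻¹ * (f * g) = (((f * g) ^ 2) ^ r)⁻¹ := by
      rw [hw, show orderOf (f * g) / 2 = 2 * r + 1 by omega, pow_succ', mul_inv_rev, inv_mul_cancel_right, pow_mul]
    rw [e1]
    exact inv_mem (pow_mem hsq _)
  · refine ⟨1, Or.inl rfl, ?_⟩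
    obtain ⟨r, hr⟩ := Nat.not_even_iff_odd.1 hev
    rw [inv_one, one_mul, show f * g = ((f * g) ^ 2) ^ (r + 1) by
      rw [← pow_mul, show 2 * (r + 1) = orderOf (f * g) + 1 by omega, pow_succ, pow_orderOf_eq_one, one_mul]]
    exact pow_mem hsq _

/-- Every element is a member or trivial, modulo the odd core of the kernel. -/
theorem mem_memCore {x : G} (hx : x ∈ memCore M z L i) :
    ∃ f, (f = 1 ∨ f ∈ memberSet z L i) ∧ f⁻¹ * x ∈ oddKer M L i := by
  set B := oddKer M L i with hB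
  have hnorm : ∀ g, (g = 1 ∨ g ∈ memberSet z L i) → g ∈ normalizer (B : Set G) := fun g hg => by
    rcases hg with rfl | hg
    exacts [one_mem _, oddKer_normalizer L i hg.2.1]
  have hinv : ∀ f, (f = 1 ∨ f ∈ memberSet z L i) → f⁻¹ = f := fun f hf => by
    rcases hf with rfl | hf
    exacts [inv_one, invol_inv (h.crit.orderOf_conj hf.1)]
  let W : Subgroup G :=
    { carrier := {x | ∃ f, (f = 1 ∨ f ∈ memberSet z L i) ∧ f⁻¹ * x ∈ B}
      one_mem' := ⟨1, Or.inl rfl, by rw [inv_one, one_mul]; exact one_mem B⟩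
      mul_mem' := by
        rintro x y ⟨f, hf, hx⟩ ⟨g, hg, hy⟩
        obtain ⟨k, hk, hfg⟩ := exists_member_mul h D hf hg
        refine ⟨k, hk, ?_⟩
        have e : k⁻¹ * (x * y) = k⁻¹ * (f * g) * (g⁻¹ * (f⁻¹ * x) * g) * (g⁻¹ * y) := by group
        rw [e]
        exact mul_mem (mul_mem hfg ((mem_normalizer_iff''.1 (hnorm g hg) _).1 hx)) hy
      inv_mem' := by
        rintro x ⟨f, hf, hx⟩
        refine ⟨f, hf, ?_⟩
        have e : f⁻¹ * x⁻¹ = f⁻¹ * (f⁻¹ * x)⁻¹ * f⁻¹ := by group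
        rw [e]
        nth_rewrite 2 [← inv_inv f⁻¹]
        rw [inv_inv f, hinv f hf]
        exact (mem_normalizer_iff.1 (hnorm f hf) _).1 (by
          have := inv_mem hx; rwa [hinv f hf] at this) |> fun h1 => by rwa [hinv f hf] at h1 }
  have hle : memCore M z L i ≤ W := sup_le
    ((closure_le _).2 fun d hd => ⟨d, Or.inr hd, by rw [inv_mul_cancel]; exact one_mem B⟩)
    fun b hb => ⟨1, Or.inl rfl, by rw [inv_one, one_mul]; exact hb⟩
  exact hle hx

theorem sq_mem {x : G} (hx : x ∈ memCore M z L i) : x ^ 2 ∈ oddKer M L i := by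
  obtain ⟨f, hf, hfx⟩ := mem_memCore h D hx
  have e : x ^ 2 = f * (f⁻¹ * x) * f * (f⁻¹ * x) := by rw [pow_two]; group
  rw [e]
  rcases hf with rfl | hf
  · simpa using mul_mem hfx hfx
  refine mul_mem ?_ hfx
  have := (mem_normalizer_iff.1 (oddKer_normalizer L i hf.2.1) _).1 hfx
  rwa [invol_inv (h.crit.orderOf_conj hf.1)] at this ⊢

theorem mem_oddKer_of_odd {x : G} (hx : x ∈ memCore M z L i) (ho : Odd (orderOf x)) : x ∈ oddKer M L i := by
  have h2 := sq_mem h D hx
  obtain ⟨r, hr⟩ := ho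
  rw [show x = (x ^ 2) ^ (r + 1) by
    rw [← pow_mul, show 2 * (r + 1) = orderOf x + 1 by omega, pow_succ, pow_orderOf_eq_one, one_mul]]
  exact pow_mem h2 _

/-- An involution is a member. -/
theorem member_of_invol {t : G} (ht : t ∈ memCore M z L i) (hto : orderOf t = 2) : t ∈ memberSet z L i := by
  obtain ⟨f, hf, hft⟩ := mem_memCore h D ht
  have hodd := (oddKer_odd L i).of_dvd_nat (Subgroup.orderOf_dvd_natCard _ hft)
  rcases hf with rfl | hf
  · rw [inv_one, one_mul, hto] at hodd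
    exact absurd hodd (by decide)
  · rw [invol_inv (h.crit.orderOf_conj hf.1)] at hodd
    exact ⟨hf.1.trans (Invol.isConj_of_odd (h.crit.orderOf_conj hf.1) hto hodd), memCore_le L i ht,
      memCore_fix L i ht⟩

variable [hp : Fact p.Prime] (hp2 : p ≠ 2) {S : Subgroup G} (hSL : S ≤ L) (hSi : ∀ s ∈ S, s • i = i)
  (hSp : IsPGroup p S) (hSB : ¬ p ∣ (S ⊓ oddKer M L i).relIndex (oddKer M L i))

include hSL hSi

omit hp in
theorem le_normalizer_memCore : S ≤ normalizer (memCore M z L i : Set G) :=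
  fun s hs => stab_normalizes_memCore L i (hSL hs) (hSi s hs)

omit hp in
theorem exists_mul {x : G} (hx : x ∈ xGroup M z L i S) : ∃ e ∈ memCore M z L i, ∃ s ∈ S, e * s = x := by
  rw [xGroup, ← SetLike.mem_coe,
    coe_mul_of_right_le_normalizer_left _ _ (le_normalizer_memCore h D hSL hSi)] at hx
  exact hx

omit hp in
theorem xGroup_le : xGroup M z L i S ≤ L ⊓ MulAction.stabilizer G i :=
  sup_le (le_inf (memCore_le L i) fun _ hx => memCore_fix L i hx) (le_inf hSL hSi)

include hSp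

/-- An element of order prime to `p` lies in the members with the odd core. -/
theorem mem_memCore_of_coprime {x : G} (hx : x ∈ xGroup M z L i S) (hc : (orderOf x).Coprime p) :
    x ∈ memCore M z L i := by
  set E := memCore M z L i
  have hn := le_normalizer_memCore h D hSL hSi
  obtain ⟨e, he, s, hs, rfl⟩ := exists_mul h D hSL hSi hx
  have key : ∀ n : ℕ, (e * s) ^ n * (s ^ n)⁻¹ ∈ E := by
    intro n
    induction n with
    | zero => simp
    | succ n ih =>
      have e1 : (e * s) ^ (n + 1) * (s ^ (n + 1))⁻¹ = ((e * s) ^ n * (s ^ n)⁻¹) * (s ^ n * e * (s ^ n)⁻¹) := by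
        rw [pow_succ, pow_succ]; group
      rw [e1]
      exact mul_mem ih ((mem_normalizer_iff.1 (hn (pow_mem hs n)) e).1 he)
  obtain ⟨k, hk⟩ := hSp ⟨s, hs⟩
  have h1 := key (p ^ k)
  rw [show s ^ p ^ k = 1 from congrArg Subtype.val hk, inv_one, mul_one] at h1
  obtain ⟨m, hm⟩ := exists_pow_eq_self_of_coprime (n := p ^ k) (x := e * s) (hc.symm.pow_left k)
  rw [← hm]; exact pow_mem h1 m

include hp2

theorem invol_mem {t : G} (ht : t ∈ xGroup M z L i S) (hto : orderOf t = 2) : t ∈ memberSet z L i :=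
  member_of_invol h D (mem_memCore_of_coprime h D hSL hSi hSp ht (by
    rw [hto]; exact (Nat.coprime_primes Nat.prime_two hp.out).2 (Ne.symm hp2))) hto

/-- Two-subgroups are abelian. -/
theorem twoAbelian : ∀ T : Subgroup ↥(xGroup M z L i S), IsPGroup 2 T →
    ∀ x ∈ T, ∀ y ∈ T, x * y = y * x := by
  intro T hT x hx y hy
  set B := oddKer M L i
  have hmem : ∀ t : ↥(xGroup M z L i S), t ∈ T → (t : G) ∈ memCore M z L i := fun t ht => by
    refine mem_memCore_of_coprime h D hSL hSi hSp t.2 ?_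
    obtain ⟨k, hk⟩ := hT ⟨t, ht⟩
    have h1 : (t : G) ^ 2 ^ k = 1 := congrArg (fun a : T => ((a : ↥(xGroup M z L i S)) : G)) hk
    exact (((Nat.coprime_primes Nat.prime_two hp.out).2 (Ne.symm hp2)).pow_left k).coprime_dvd_left
      (orderOf_dvd_of_pow_eq_one h1)
  have hcB : ((y : G) * x)⁻¹ * ((x : G) * y) ∈ B := by
    have e : ((y : G) * x)⁻¹ * ((x : G) * y) =
        ((x : G)⁻¹) ^ 2 * ((x : G) * (y : G)⁻¹) ^ 2 * (y : G) ^ 2 := by
      simp only [pow_two]; group
    rw [e]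
    exact mul_mem (mul_mem (sq_mem h D (inv_mem (hmem x hx)))
      (sq_mem h D (mul_mem (hmem x hx) (inv_mem (hmem y hy))))) (sq_mem h D (hmem y hy))
  have hc : (y * x)⁻¹ * (x * y) ∈ T := mul_mem (inv_mem (mul_mem hy hx)) (mul_mem hx hy)
  obtain ⟨k, hk⟩ := hT ⟨_, hc⟩
  have h1 := eq_one_of_odd_of_pow_two (k := k)
    ((oddKer_odd L i).of_dvd_nat (Subgroup.orderOf_dvd_natCard _ hcB))
    (congrArg (fun a : T => ((a : ↥(xGroup M z L i S)) : G)) hk)
  exact (Subtype.ext (inv_mul_eq_one.1 h1) : y * x = x * y).symm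

theorem solvable : Group.IsSolvable ↥(xGroup M z L i S) := by
  refine CfsgLib.Invol.isSolvable_sup (le_normalizer_memCore h D hSL hSi) ?_ ?_
  · haveI : Group.IsSolvable (oddKer M L i) := Cfsg.Agent.S0205.result (oddKer_odd L i)
    set E := memCore M z L i
    set N := (oddKer M L i).subgroupOf E
    haveI : N.Normal := normal_subgroupOf_of_le_normalizer fun e he => oddKer_normalizer L i (memCore_le L i he)
    haveI : Group.IsSolvable N := Group.isSolvable_of_isSolvable_injective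
      (f := (subgroupOfEquivOfLe (le_sup_right : oddKer M L i ≤ E)).toMonoidHom)
      (subgroupOfEquivOfLe (le_sup_right : oddKer M L i ≤ E)).injective
    have hsq : ∀ c : E ⧸ N, c * c = 1 := fun c => QuotientGroup.induction_on c fun x =>
      (QuotientGroup.eq_one_iff _).2 (by
        show ((x * x : E) : G) ∈ oddKer M L i
        simpa [pow_two] using sq_mem h D x.2)
    have hinv : ∀ c : E ⧸ N, c⁻¹ = c := fun c => inv_eq_of_mul_eq_one_left (hsq c)
    haveI : Group.IsSolvable (E ⧸ N) := Group.isSolvable_of_comm fun a b => by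
      rw [← hinv (a * b), mul_inv_rev, hinv, hinv]
    exact Group.isSolvable_of_ker_le_range N.subtype (QuotientGroup.mk' N) (by simp)
  · haveI := hSp.isNilpotent
    infer_instance

/-- The `p'`-core is odd and lies in the odd core of the kernel. -/
theorem mem_oddKer_of_mem_core {x : ↥(xGroup M z L i S)} (hx : x ∈ Cfsg.pPrimeCore p ↥(xGroup M z L i S)) :
    (x : G) ∈ oddKer M L i := by
  revert x
  set X := xGroup M z L i S with hX
  intro x hx
  set K := Cfsg.pPrimeCore p X with hK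
  have hcop : ∀ y ∈ K, (orderOf ((y : X) : G)).Coprime p := fun y hy => by
    rw [Subgroup.orderOf_coe]
    exact ((hp.out.coprime_iff_not_dvd.2 fun hd => CfsgLib.Coprime.pPrimeCore_not_dvd hp.out
      (hd.trans (Subgroup.orderOf_dvd_natCard K hy))).symm)
  have hodd : Odd (orderOf (x : G)) := by
    rw [← Nat.not_even_iff_odd]
    intro hev
    have hto : orderOf ((x : G) ^ (orderOf (x : G) / 2)) = 2 := orderOf_pow_half hev
    set t : X := x ^ (orderOf (x : G) / 2) with ht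
    have htm := invol_mem h D hp2 hSL hSi hSp t.2 (by simpa [ht] using hto)
    obtain ⟨u, huL, hui, hu1, hup, hinv⟩ := inverted_of_member h D htm.1 htm.2.1 htm.2.2
    have huB := mem_oddKer_of_inverted h D htm.1 htm.2.1 htm.2.2 huL hui
      (h.odd_of_pow hp.out hp2 hup) hinv
    let u' : X := ⟨u, mem_sup_left (mem_sup_right huB)⟩
    have htK : t ∈ K := pow_mem hx _
    have hsq : u' * t * u'⁻¹ * t⁻¹ ∈ K :=
      mul_mem ((inferInstance : K.Normal).conj_mem t htK u') (inv_mem htK)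
    have hval : ((u' * t * u'⁻¹ * t⁻¹ : X) : G) = u ^ 2 := by
      show u * t * u⁻¹ * (t : G)⁻¹ = u ^ 2
      rw [show u * t * u⁻¹ * (t : G)⁻¹ = u * ((t : G) * u * (t : G)⁻¹)⁻¹ by group, hinv, inv_inv, pow_two]
    have h1 := hcop _ hsq
    rw [hval] at h1
    obtain ⟨k, hk⟩ := hup
    have h2 : u ^ 2 = 1 := orderOf_eq_one_iff.1 <| Nat.eq_one_of_dvd_coprimes (h1.pow_right k)
      dvd_rfl (hk ▸ orderOf_pow_dvd 2)
    exact hu1 (eq_one_of_odd_of_pow_two (k := 1) (h.odd_of_pow hp.out hp2 ⟨k, hk⟩) (by simpa using h2))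
  exact mem_oddKer_of_odd h D
    (mem_memCore_of_coprime h D hSL hSi hSp x.2 (hcop x hx)) hodd

/-- A Sylow subgroup of the stabilizer of two points in `L` is one of the group. -/
theorem isSylowIn_xGroup (hS : CfsgLib.Coprime.IsSylowIn p S
    (L ⊓ (MulAction.stabilizer G i ⊓ MulAction.stabilizer G j))) :
    CfsgLib.Coprime.IsSylowIn p S (xGroup M z L i S) := by
  have hsX : S ≤ xGroup M z L i S := le_sup_right
  obtain ⟨P, hP⟩ := (hSp.comap_of_injective (xGroup M z L i S).subtype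
    (xGroup M z L i S).subtype_injective).exists_le_sylow
  have hPD : (P : Subgroup _).map (xGroup M z L i S).subtype ≤
      L ⊓ (MulAction.stabilizer G i ⊓ MulAction.stabilizer G j) := by
    rintro _ ⟨x, hx, rfl⟩
    obtain ⟨e, he, s, hs, hes⟩ := exists_mul h D hSL hSi x.2
    have hsP : (⟨s, hsX hs⟩ : xGroup M z L i S) ∈ (P : Subgroup _) := hP (show s ∈ S from hs)
    have he' : (x * (⟨s, hsX hs⟩ : xGroup M z L i S)⁻¹ : xGroup M z L i S) ∈ (P : Subgroup _) :=
      mul_mem hx (inv_mem hsP)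
    obtain ⟨k, hk⟩ := P.2 ⟨_, he'⟩
    have hval : ((x * (⟨s, hsX hs⟩ : xGroup M z L i S)⁻¹ : xGroup M z L i S) : G) = e := by
      show (x : G) * s⁻¹ = e
      rw [← hes, mul_inv_cancel_right]
    have h1 : e ^ p ^ k = 1 := by
      rw [← hval]
      exact congrArg (fun a : (P : Subgroup (xGroup M z L i S)) => ((a : xGroup M z L i S) : G)) hk
    have heB := mem_oddKer_of_odd h D he
      ((hp.out.odd_of_ne_two hp2).pow.of_dvd_nat (orderOf_dvd_of_pow_eq_one h1))
    obtain ⟨g, hg, hgj⟩ := D.orbit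
    have hej : e • j = j := hgj ▸ oddKer_fix L i heB hg
    show (x : G) ∈ _
    rw [← hes]
    exact mul_mem ⟨oddKer_le L i heB, memCore_fix L i he, hej⟩ (hS.1 hs)
  refine ⟨hsX, le_antisymm (CfsgLib.Bender.isPGroup_card_le hSp hsX) ?_⟩
  rw [← Sylow.card_eq_multiplicity P, hS.2,
    ← card_map_of_injective (xGroup M z L i S).subtype_injective]
  exact CfsgLib.Bender.isPGroup_card_le (P.2.map _) hPD

/-- A subgroup whose normalizer supplements the `p'`-core is normalized by two commuting members and by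
a `p`-element inverted by a member. -/
theorem exists_normalizer {N : Subgroup ↥(xGroup M z L i S)}
    (hN : Cfsg.pPrimeCore p ↥(xGroup M z L i S) ⊔ N = ⊤) :
    ∃ d e v u : ↥(xGroup M z L i S), d ∈ N ∧ e ∈ N ∧ v ∈ N ∧ u ∈ N ∧
      (d : G) ∈ memberSet z L i ∧ (e : G) ∈ memberSet z L i ∧ Commute (d : G) e ∧ (d : G) ≠ e ∧
      (v : G) ∈ memberSet z L i ∧ (u : G) ∈ oddKer M L i ∧ (u : G) ≠ 1 ∧
      (∃ k : ℕ, orderOf (u : G) = p ^ k) ∧ (v : G) * u * (v : G)⁻¹ = (u : G)⁻¹ := by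
  revert N
  set X := xGroup M z L i S with hX
  intro N hN
  set K := Cfsg.pPrimeCore p X with hK
  haveI : Fact (Nat.Prime 2) := ⟨Nat.prime_two⟩
  have hKodd : Odd (Nat.card K) := by
    rw [← card_map_of_injective X.subtype_injective]
    exact (oddKer_odd L i).of_dvd_nat (card_dvd_of_le (by
      rintro _ ⟨y, hy, rfl⟩
      exact mem_oddKer_of_mem_core h D hp2 hSL hSi hSp hy))
  obtain ⟨P⟩ : Nonempty (Sylow 2 N) := inferInstance
  have hNindex : ¬ 2 ∣ N.index := by
    intro h2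
    refine hKodd.not_two_dvd_nat (h2.trans ?_)
    have h3 := CfsgLib.Coprime.card_sup_dvd_of_le_normalizer (H := N) (N := K)
      (by rw [normalizer_eq_top]; exact le_top)
    rw [sup_comm, hN, card_top, ← N.card_mul_index] at h3
    exact Nat.dvd_of_mul_dvd_mul_left Nat.card_pos h3
  have hidx : ¬ 2 ∣ ((P : Subgroup N).map N.subtype).index := by
    rw [index_map_subtype]
    exact fun h2 => (Nat.prime_two.dvd_mul.1 h2).elim P.not_dvd_index hNindex
  have hPX : IsPGroup 2 ((P : Subgroup N).map N.subtype) := P.2.map _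
  have hPN : (hPX.toSylow hidx : Subgroup X) ≤ N := by
    rw [IsPGroup.toSylow_coe]; exact map_subtype_le _
  have hmem : ∀ x : X, ∀ g ∈ memberSet z L i, (x : G) * g * (x : G)⁻¹ ∈ memberSet z L i := by
    intro x g hg
    obtain ⟨hxL, hxi⟩ := xGroup_le h D hSL hSi x.2
    refine ⟨hg.1.trans (isConj_iff.2 ⟨(x : G), rfl⟩), mul_mem (mul_mem hxL hg.2.1) (inv_mem hxL), ?_⟩
    rw [mul_smul, mul_smul, inv_smul_eq_iff.2 (MulAction.mem_stabilizer_iff.1 hxi).symm, hg.2.2]
    exact MulAction.mem_stabilizer_iff.1 hxi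
  have hgen : ∀ g ∈ memberSet z L i, g ∈ X := fun g hg => mem_sup_left (mem_sup_left (subset_closure hg))
  obtain ⟨d₀, e₀, hd₀, he₀, hd₀L, he₀L, hd₀i, hde₀, hne₀⟩ := D.pair
  have hdm : d₀ ∈ memberSet z L i := ⟨hd₀, hd₀L, hd₀i⟩
  have hem : e₀ ∈ memberSet z L i := ⟨he₀, he₀L, h.crit.smul_of_commute hd₀ hde₀.symm hd₀i⟩
  let d' : X := ⟨d₀, hgen _ hdm⟩
  let e' : X := ⟨e₀, hgen _ hem⟩
  have hV : IsPGroup 2 (zpowers d' ⊔ zpowers e' : Subgroup X) := by
    have hz : ∀ a : X, a * a = 1 → IsPGroup 2 (zpowers a) := fun a ha =>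
      IsPGroup.iff_card.2 (((Nat.dvd_prime_pow Nat.prime_two).1
        (show Nat.card (zpowers a) ∣ 2 ^ 1 by
          rw [Nat.card_zpowers]; exact orderOf_dvd_of_pow_eq_one (by rw [pow_one, pow_two, ha]))).imp
        fun _ hh => hh.2)
    refine (hz d' (Subtype.ext (invol_mul_self (h.crit.orderOf_conj hd₀)))).to_sup_of_normal_right'
      (hz e' (Subtype.ext (invol_mul_self (h.crit.orderOf_conj he₀)))) (zpowers_le.2 ?_)
    refine mem_normalizer_iff_map_conj_eq.2 ?_
    rw [MonoidHom.map_zpowers]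
    exact congrArg zpowers (Subtype.ext (show d₀ * e₀ * d₀⁻¹ = e₀ by rw [hde₀.eq, mul_inv_cancel_right]))
  obtain ⟨x, hx⟩ := exists_conj_le_sylow hV (hPX.toSylow hidx)
  obtain ⟨v₀, u₀, hv₀, hv₀L, hv₀i, hu₀L, hu₀i, hu₀1, hu₀p, hinv₀⟩ := D.inverted
  have hvm : v₀ ∈ memberSet z L i := ⟨hv₀, hv₀L, hv₀i⟩
  have huB := mem_oddKer_of_inverted h D hv₀ hv₀L hv₀i hu₀L hu₀i (h.odd_of_pow hp.out hp2 hu₀p) hinv₀
  let v' : X := ⟨v₀, hgen _ hvm⟩
  obtain ⟨y, hy⟩ := exists_conj_le_sylow (p := 2)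
    (Q := zpowers v') (IsPGroup.iff_card.2 ⟨1, by
      rw [Nat.card_zpowers, ← Subgroup.orderOf_coe, h.crit.orderOf_conj hv₀, pow_one]⟩) (hPX.toSylow hidx)
  set v : X := y * v' * y⁻¹ with hv
  have hvN : v ∈ N := hPN (hy v' (mem_zpowers v'))
  have hvmem : (v : G) ∈ memberSet z L i := hmem y v₀ hvm
  set u : X := y * ⟨u₀, mem_sup_left (mem_sup_right huB)⟩ * y⁻¹ with hu
  have hyB : (y : G) ∈ normalizer (oddKer M L i : Set G) :=
    oddKer_normalizer L i (xGroup_le h D hSL hSi y.2).1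
  have huB' : (u : G) ∈ oddKer M L i := (mem_normalizer_iff.1 hyB u₀).1 huB
  have hu1 : u ≠ 1 := fun e1 => hu₀1 (congrArg Subtype.val (conj_eq_one_iff.1 e1))
  obtain ⟨k₁, hk₁⟩ := hu₀p
  have huo : orderOf u = p ^ k₁ := by
    rw [← Subgroup.orderOf_coe, ← hk₁]; exact (MulAut.conj (y : G)).orderOf_eq u₀
  have huinv : v * u * v⁻¹ = u⁻¹ := Subtype.ext (by
    show (y : G) * v₀ * (y : G)⁻¹ * ((y : G) * u₀ * (y : G)⁻¹) * ((y : G) * v₀ * (y : G)⁻¹)⁻¹ =
      ((y : G) * u₀ * (y : G)⁻¹)⁻¹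
    rw [show (y : G) * v₀ * (y : G)⁻¹ * ((y : G) * u₀ * (y : G)⁻¹) * ((y : G) * v₀ * (y : G)⁻¹)⁻¹ =
      (y : G) * (v₀ * u₀ * v₀⁻¹) * (y : G)⁻¹ by group, hinv₀]
    group)
  obtain ⟨a, ha, n, hn, han⟩ := mem_sup_of_normal_left.1 (hN.symm ▸ mem_top u : u ∈ K ⊔ N)
  have hnB : (n : G) ∈ oddKer M L i := by
    rw [show (n : G) = (a : G)⁻¹ * u from eq_inv_mul_iff_mul_eq.2 (congrArg Subtype.val han)]
    exact mul_mem (inv_mem (mem_oddKer_of_mem_core h D hp2 hSL hSi hSp ha)) huB'
  set k : X := n⁻¹ * (v * n * v⁻¹) with hkdef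
  have hkN : k ∈ N := mul_mem (inv_mem hn) (mul_mem (mul_mem hvN hn) (inv_mem hvN))
  have hkB : (k : G) ∈ oddKer M L i := mul_mem (inv_mem hnB)
    ((mem_normalizer_iff.1 (oddKer_normalizer L i hvmem.2.1) _).1 hnB)
  have hvv : v⁻¹ = v := inv_eq_of_mul_eq_one_left
    (Subtype.ext (invol_mul_self (h.crit.orderOf_conj hvmem.1)))
  have hkinv : v * k * v⁻¹ = k⁻¹ := by
    have e1 : v * k * v⁻¹ = v * n⁻¹ * v * n * (v⁻¹ * v⁻¹) := by rw [hkdef]; group
    have e2 : k⁻¹ = v * n⁻¹ * v⁻¹ * n := by rw [hkdef]; group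
    rw [e1, e2, hvv, show v * v = 1 by rw [← inv_eq_iff_mul_eq_one, hvv], mul_one]
  set m := orderOf k / p ^ (orderOf k).factorization p with hm
  have hmo : p ^ (orderOf k).factorization p * m = orderOf k :=
    Nat.ordProj_mul_ordCompl_eq_self _ _
  refine ⟨x * d' * x⁻¹, x * e' * x⁻¹, v, k ^ m, hPN (hx d' (mem_sup_left (mem_zpowers _))),
    hPN (hx e' (mem_sup_right (mem_zpowers _))), hvN, pow_mem hkN m, hmem x d₀ hdm, hmem x e₀ hem,
    ?_, fun hh => hne₀ (mul_left_cancel (mul_right_cancel hh)), hvmem, pow_mem hkB m, ?_, ?_, ?_⟩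
  · show Commute ((x : G) * d₀ * (x : G)⁻¹) ((x : G) * e₀ * (x : G)⁻¹)
    exact (Commute.conj_iff (x : G)).2 hde₀
  · intro hkm
    set π := QuotientGroup.mk' K with hπ
    have hπn : π n = π u := by
      rw [← han, map_mul, show π a = 1 from (QuotientGroup.eq_one_iff a).2 ha, one_mul]
    have hπk : π k = π ((u ^ 2)⁻¹) := by
      have h1 := congrArg π huinv
      rw [map_mul, map_mul, map_inv, map_inv] at h1
      rw [hkdef, map_mul, map_mul, map_mul, map_inv, map_inv, hπn, h1, ← map_inv, ← map_mul, pow_two]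
      exact congrArg π (mul_inv_rev u u).symm
    have hK2 : ((u ^ 2)⁻¹) ^ m ∈ K := by
      refine (QuotientGroup.eq_one_iff _).1 (show π _ = 1 from ?_)
      rw [map_pow, ← hπk, ← map_pow, show k ^ m = 1 from Subtype.ext hkm, map_one]
    have h2 : ((u ^ 2)⁻¹) ^ m = 1 := orderOf_eq_one_iff.1 <| Nat.eq_one_of_dvd_coprimes
      ((hp.out.coprime_iff_not_dvd.2 (CfsgLib.Coprime.pPrimeCore_not_dvd hp.out)).pow_left k₁)
      ((orderOf_pow_dvd m).trans (by rw [orderOf_inv, ← huo]; exact orderOf_pow_dvd 2))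
      (Subgroup.orderOf_dvd_natCard K hK2)
    rw [inv_pow, inv_eq_one, ← pow_mul] at h2
    have hcop : (p ^ k₁).Coprime (2 * m) := Nat.Coprime.pow_left k₁ (Nat.Coprime.mul_right
      ((Nat.coprime_primes hp.out Nat.prime_two).2 hp2)
      (Nat.coprime_ordCompl hp.out (orderOf_pos k).ne'))
    exact hu1 (orderOf_eq_one_iff.1 (Nat.eq_one_of_dvd_coprimes hcop huo.dvd
      (orderOf_dvd_of_pow_eq_one h2)))
  · have h1 : (k ^ m) ^ p ^ (orderOf k).factorization p = 1 := by
      rw [← pow_mul, mul_comm, hmo, pow_orderOf_eq_one]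
    obtain ⟨r, -, hr⟩ := (Nat.dvd_prime_pow hp.out).1 (orderOf_dvd_of_pow_eq_one h1)
    exact ⟨r, by rw [Subgroup.orderOf_coe, hr]⟩
  · exact congrArg Subtype.val (show v * k ^ m * v⁻¹ = (k ^ m)⁻¹ by rw [← conj_pow, hkinv, inv_pow])

end Step

end CfsgLib.SECrit
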